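import Cfsg.Agent.Lib.E6Twist.Data
import Cfsg.Agent.Lib.Chev.PoincareE6
import Cfsg.Agent.Lib.H59.Homocyclic.Main

/-!
A Weyl group element of type E6 with an eigenvector of order twelve over a prime field is conjugate to the product
of the six fundamental reflections.
-/

set_option autoImplicit false

namespace Cfsg.Agent.Lib.E6Twist

open Cfsg.Lie Cfsg.Agent.Lib.Chev

/-- The reflection table. -/
def rf (i s : ℕ) : ℕ := refl E6.cert i s

/-- A word acting on a root index. -/
def runR (L : List ℕ) (s : ℕ) : ℕ := L.foldr rf s

/-- Look up a packed permutation. -/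
def lk (P s : ℕ) : ℕ := (P >>> (8 * s)) % 256

/-- The indices of the fundamental roots. -/
def smp : List ℕ := [56, 46, 42, 39, 37, 36]

/-- Iterate of a pair of packed permutations. -/
def itC (U P : ℕ) : ℕ → ℕ → ℕ
  | 0, s => s
  | k + 1, s => lk U (lk P (itC U P k s))

/-- The fundamental reflections fixing the lowest root. -/
def stabJ : List ℕ := [0, 2, 3, 4, 5]

/-- The packed permutation of a stabilizer element. -/
def xPerm (k : ℕ) : ℕ := (xTab.getD k default).2.2

/-- One step in the table of the stabilizer. -/
def stepB : ℕ → List (ℕ × ℕ × ℕ) → Bool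
  | _, [] => true
  | k, (j, p, P) :: rest =>
    (if k = 0 then (List.range 72).all (fun s => Nat.beq (lk P s) s)
      else stabJ.contains j && decide (p < k) &&
        (let Q := xPerm p; (List.range 72).all fun s => Nat.beq (lk P s) (rf j (lk Q s)))) && stepB (k + 1) rest

/-- The key of a packed permutation. -/
def keyOf (P : ℕ) : ℕ := smp.foldr (fun p a => lk P p + 128 * a) 0

/-- Strictly increasing. -/
def incB : List ℕ → Bool
  | a :: b :: rest => decide (a < b) && incB (b :: rest)
  | _ => true

/-- The combination of coefficients killed by a candidate without the eigenvalue. -/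
def combZ (U P α j : ℕ) : ℤ :=
  2 * coef chevE6 E6.cert j α - coef chevE6 E6.cert j (itC U P 4 α) - coef chevE6 E6.cert j (itC U P 8 α) -
    2 * coef chevE6 E6.cert j (itC U P 6 α) + coef chevE6 E6.cert j (itC U P 10 α) +
    coef chevE6 E6.cert j (itC U P 14 α)

/-- The check of one candidate. -/
def candB (U P : ℕ) (c : ℕ × List ℕ) : Bool :=
  match c.1 with
  | 0 => smp.all fun α => (List.range 6).all fun j => decide (combZ U P α j = 0)
  | 1 => c.2.all (fun i => decide (i < 6)) &&
      (List.range 72).all fun s => Nat.beq (runR c.2 (lk U (lk P s))) (runR [0, 1, 2, 3, 4, 5] (runR c.2 s))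
  | o + 2 => decide (o + 2 < 11) && smp.all fun α => Nat.beq (itC U P (o + 2) α) α

/-- The check of one block of candidates. -/
def blockB : ℕ → List (ℕ × ℕ × ℕ) → List (ℕ × List ℕ) → Bool
  | _, [], [] => true
  | U, x :: xs, c :: cs => candB U x.2.2 c && blockB U xs cs
  | _, _, _ => false

theorem smp_ok : (List.range 6).map chevE6.simple = smp := by decide +kernel

theorem step_ok : stepB 0 xTab = true := by decide +kernel

theorem xTab_length : xTab.length = 720 := by decide +kernel

theorem order_ok : (xOrder.all fun k => decide (k < 720)) = true ∧ xOrder.length = 720 ∧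
    incB (xOrder.map fun k => keyOf (xPerm k)) = true := by decide +kernel

theorem uWord_ok : uWord.length = 5 ∧ uWord.getD 0 [0] = [] ∧
    ((List.range 5).all fun i => (uWord.getD i []).all (fun j => decide (j < 6)) &&
      (List.range 72).all fun s => Nat.beq (lk (uPerm.getD i 0) s) (runR (uWord.getD i []) s)) = true := by
  decide +kernel

theorem reach_ok : rootReach.getD 0 (1, [0]) = (0, []) ∧ ((List.range 72).all fun s =>
    decide ((rootReach.getD s default).1 < 5) &&
      ((rootReach.getD s default).2.all fun j => stabJ.contains j) &&
      Nat.beq (runR (rootReach.getD s default).2 (runR (uWord.getD (rootReach.getD s default).1 []) 0)) s) = true := by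
  decide +kernel

theorem block0_ok : blockB (uPerm.getD 0 0) xTab (candTab.getD 0 []) = true := by decide +kernel
theorem block1_ok : blockB (uPerm.getD 1 0) xTab (candTab.getD 1 []) = true := by decide +kernel
theorem block2_ok : blockB (uPerm.getD 2 0) xTab (candTab.getD 2 []) = true := by decide +kernel
theorem block3_ok : blockB (uPerm.getD 3 0) xTab (candTab.getD 3 []) = true := by decide +kernel
theorem block4_ok : blockB (uPerm.getD 4 0) xTab (candTab.getD 4 []) = true := by decide +kernel

end Cfsg.Agent.Lib.E6Twist
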