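import Cfsg.Agent.Lib.E6Twist.Check

/-!
A Weyl group element of type E6 with a linear eigenfunction on the roots of order twelve is conjugate to the product
of the six fundamental reflections.
-/

set_option autoImplicit false

namespace Cfsg.Agent.Lib.E6Twist

open Cfsg.Lie Cfsg.Agent.Lib.Chev Cfsg.Agent.Lib.H59.Homocyclic

/-- The permutation of a word. -/
abbrev wp (L : List ℕ) : Equiv.Perm (Fin chevE6.nroots) := wperm checked_E6 L

/-- The Weyl group. -/
abbrev W6 : Subgroup (Equiv.Perm (Fin chevE6.nroots)) := weyl checked_E6 (Finset.range chevE6.rank)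

theorem nroots_eq : chevE6.nroots = 72 := rfl

theorem rank_eq : chevE6.rank = 6 := rfl

theorem mem_W6 {L : List ℕ} (hL : ∀ i ∈ L, i < 6) : wp L ∈ W6 := checked_E6.mem_weyl_of_word hL

theorem wp_val : ∀ {L : List ℕ}, (∀ i ∈ L, i < 6) → ∀ s, ((wp L) s).val = runR L s.val
  | [], _, s => by simp [wp, wperm_nil, runR]
  | i :: L, hL, s => by
    rw [wp, wperm_cons, Equiv.Perm.mul_apply, checked_E6.sigma_val (hL i List.mem_cons_self),
      wp_val (fun j hj => hL j (List.mem_cons_of_mem _ hj)) s]
    rfl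

theorem smp_eq {j : ℕ} (hj : j < 6) : smp.getD j 0 = chevE6.simple j := by
  rw [← smp_ok]
  interval_cases j <;> rfl

theorem stabJ_lt {j : ℕ} (h : j ∈ stabJ) : j < 6 := by
  simp only [stabJ, List.mem_cons, List.not_mem_nil, or_false] at h
  omega

/-- The lowest root. -/
def lowRoot : Fin chevE6.nroots := ⟨0, by decide⟩

theorem refl_low : ∀ j ∈ stabJ, rf j 0 = 0 := by decide +kernel

theorem runR_low : ∀ {L : List ℕ}, (∀ i ∈ L, i ∈ stabJ) → runR L 0 = 0
  | [], _ => rfl
  | i :: L, hL => by
    show rf i (runR L 0) = 0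
    rw [runR_low fun j hj => hL j (List.mem_cons_of_mem _ hj)]
    exact refl_low i (hL i List.mem_cons_self)

theorem stepB_spec : ∀ (L : List (ℕ × ℕ × ℕ)) (k : ℕ), stepB k L = true → ∀ m, (hm : m < L.length) →
    ((k + m = 0 ∧ ∀ s < 72, lk (L[m]).2.2 s = s) ∨ (k + m ≠ 0 ∧ (L[m]).1 ∈ stabJ ∧ (L[m]).2.1 < k + m ∧
      ∀ s < 72, lk (L[m]).2.2 s = rf (L[m]).1 (lk (xPerm (L[m]).2.1) s)))
  | [], _, _, m, hm => absurd hm (by simp)
  | (j, p, P) :: rest, k, h, m, hm => by
    rw [stepB, Bool.and_eq_true] at h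
    rcases m with _ | m
    · simp only [List.getElem_cons_zero, Nat.add_zero]
      by_cases hk : k = 0
      · refine Or.inl ⟨hk, fun s hs => ?_⟩
        have := h.1
        rw [if_pos hk, List.all_eq_true] at this
        simpa using this s (List.mem_range.2 hs)
      · refine Or.inr ⟨hk, ?_⟩
        have := h.1
        rw [if_neg hk] at this
        simp only [Bool.and_eq_true, decide_eq_true_eq, List.contains_iff_mem, List.all_eq_true, List.mem_range,
          Nat.beq_eq] at this
        exact ⟨this.1.1, this.1.2, this.2⟩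
    · have := stepB_spec rest (k + 1) h.2 m (by simpa using hm)
      simpa [show k + 1 + m = k + (m + 1) by omega] using this

theorem xTab_get {k : ℕ} (hk : k < xTab.length) : xPerm k = (xTab[k]).2.2 := by
  rw [xPerm, List.getD_eq_getElem _ _ hk]

theorem exists_xWord : ∀ k < 720, ∃ L : List ℕ, (∀ i ∈ L, i ∈ stabJ) ∧ ∀ s < 72, lk (xPerm k) s = runR L s := by
  intro k
  induction k using Nat.strong_induction_on with
  | _ k ih =>
    intro hk
    have hk' : k < xTab.length := by rw [xTab_length]; exact hk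
    rcases stepB_spec xTab 0 step_ok k hk' with ⟨-, h⟩ | ⟨-, hj, hp, h⟩
    · refine ⟨[], by simp, fun s hs => ?_⟩
      rw [xTab_get hk', h s hs]; rfl
    · obtain ⟨L, hL, e⟩ := ih _ (by simpa using hp) (by omega)
      refine ⟨(xTab[k]).1 :: L, ?_, fun s hs => ?_⟩
      · intro i hi
        rcases List.mem_cons.1 hi with rfl | hi
        · exact hj
        · exact hL i hi
      · rw [xTab_get hk', h s hs, e s hs]; rfl

/-- The element of the stabilizer with a given index. -/
noncomputable def xEl (k : Fin 720) : Equiv.Perm (Fin chevE6.nroots) := wp (exists_xWord k k.2).choose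

theorem xEl_mem (k : Fin 720) : xEl k ∈ W6 :=
  mem_W6 fun i hi => stabJ_lt ((exists_xWord k k.2).choose_spec.1 i hi)

theorem xEl_val (k : Fin 720) (s : Fin chevE6.nroots) : (xEl k s).val = lk (xPerm k) s.val := by
  rw [xEl, wp_val (fun i hi => stabJ_lt ((exists_xWord k k.2).choose_spec.1 i hi)),
    (exists_xWord k k.2).choose_spec.2 s.val s.2]

theorem xEl_low (k : Fin 720) : xEl k lowRoot = lowRoot := by
  refine Fin.ext ?_
  rw [xEl, wp_val (fun i hi => stabJ_lt ((exists_xWord k k.2).choose_spec.1 i hi))]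
  exact runR_low (exists_xWord k k.2).choose_spec.1

theorem smp_lt : ∀ α ∈ smp, α < 72 := by decide +kernel

theorem keyOf_congr {P Q : ℕ} (h : ∀ s < 72, lk P s = lk Q s) : keyOf P = keyOf Q := by
  simp only [keyOf, smp, List.foldr]
  rw [h 56 (by norm_num), h 46 (by norm_num), h 42 (by norm_num), h 39 (by norm_num), h 37 (by norm_num),
    h 36 (by norm_num)]

theorem incB_pairwise : ∀ L : List ℕ, incB L = true → L.Pairwise (· < ·)
  | [], _ => List.Pairwise.nil
  | [a], _ => List.pairwise_singleton _ a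
  | a :: b :: rest, h => by
    rw [incB, Bool.and_eq_true, decide_eq_true_eq] at h
    have ih := incB_pairwise (b :: rest) h.2
    refine List.pairwise_cons.2 ⟨fun c hc => ?_, ih⟩
    rcases List.mem_cons.1 hc with rfl | hc
    · exact h.1
    · exact h.1.trans (List.rel_of_pairwise_cons ih hc)

theorem xEl_injective : Function.Injective xEl := by
  intro a b e
  have hk : keyOf (xPerm a) = keyOf (xPerm b) := keyOf_congr fun s hs => by
    rw [← xEl_val a ⟨s, hs⟩, ← xEl_val b ⟨s, hs⟩, e]
  obtain ⟨hlt, hlen, hinc⟩ := order_ok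
  have hpair := incB_pairwise _ hinc
  have hnd : (xOrder.map fun k => keyOf (xPerm k)).Nodup := hpair.imp fun h => h.ne
  have hnd' : xOrder.Nodup := hnd.of_map _
  have hmem : ∀ k : Fin 720, k.val ∈ xOrder := by
    intro k
    have hcard : xOrder.toFinset = Finset.range 720 := by
      refine Finset.eq_of_subset_of_card_le (fun x hx => ?_) ?_
      · rw [Finset.mem_range]
        simp only [List.all_eq_true, decide_eq_true_eq] at hlt
        exact hlt x (List.mem_toFinset.1 hx)
      · rw [List.toFinset_card_of_nodup hnd', hlen, Finset.card_range]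
    exact List.mem_toFinset.1 (hcard ▸ Finset.mem_range.2 k.2)
  exact Fin.ext (List.inj_on_of_nodup_map hnd (hmem a) (hmem b) hk)

/-- The representative of an orbit of the stabilizer. -/
def uEl (i : ℕ) : Equiv.Perm (Fin chevE6.nroots) := wp (uWord.getD i [])

theorem uWord_lt {i : ℕ} (hi : i < 5) : ∀ j ∈ uWord.getD i [], j < 6 := by
  have h := uWord_ok.2.2
  simp only [List.all_eq_true, List.mem_range, Bool.and_eq_true, decide_eq_true_eq] at h
  exact (h i hi).1

theorem uEl_mem {i : ℕ} (hi : i < 5) : uEl i ∈ W6 := mem_W6 (uWord_lt hi)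

theorem uEl_val {i : ℕ} (hi : i < 5) (s : Fin chevE6.nroots) : (uEl i s).val = lk (uPerm.getD i 0) s.val := by
  have h := uWord_ok.2.2
  simp only [List.all_eq_true, List.mem_range, Bool.and_eq_true, decide_eq_true_eq, Nat.beq_eq] at h
  rw [(h i hi).2 s.val s.2, uEl, wp_val (uWord_lt hi)]

/-- The orbit of the stabilizer containing a root. -/
def orbOf (s : ℕ) : ℕ := (rootReach.getD s default).1

/-- A word of the stabilizer reaching a root. -/
def reachWord (s : ℕ) : List ℕ := (rootReach.getD s default).2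

theorem reach_spec {s : ℕ} (hs : s < 72) : orbOf s < 5 ∧ (∀ j ∈ reachWord s, j ∈ stabJ) ∧
    runR (reachWord s) (runR (uWord.getD (orbOf s) []) 0) = s := by
  have h := reach_ok.2
  simp only [List.all_eq_true, List.mem_range, Bool.and_eq_true, decide_eq_true_eq, Nat.beq_eq,
    List.contains_iff_mem] at h
  exact ⟨(h s hs).1.1, (h s hs).1.2, (h s hs).2⟩

/-- An element of the stabilizer times a representative, taking the lowest root to a given one. -/
def repEl (s : Fin chevE6.nroots) : Equiv.Perm (Fin chevE6.nroots) := wp (reachWord s) * uEl (orbOf s)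

theorem repEl_mem (s : Fin chevE6.nroots) : repEl s ∈ W6 :=
  mul_mem (mem_W6 fun j hj => stabJ_lt ((reach_spec s.2).2.1 j hj)) (uEl_mem (reach_spec s.2).1)

theorem repEl_low (s : Fin chevE6.nroots) : repEl s lowRoot = s := by
  refine Fin.ext ?_
  rw [repEl, Equiv.Perm.mul_apply, wp_val (fun j hj => stabJ_lt ((reach_spec s.2).2.1 j hj)), uEl,
    wp_val (uWord_lt (reach_spec s.2).1)]
  exact (reach_spec s.2).2.2

theorem repEl_lowRoot : repEl lowRoot = 1 := by
  have e := reach_ok.1
  have h0 : rootReach.getD 0 default = (0, []) := by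
    have hl : 0 < rootReach.length := by
      by_contra hl
      rw [List.getD_eq_default _ _ (by omega)] at e
      simp at e
    rw [List.getD_eq_getElem _ _ hl] at e ⊢
    exact e
  have hu : uWord.getD 0 [] = [] := by
    rw [List.getD_eq_getElem _ _ (by rw [uWord_ok.1]; norm_num)]
    have := uWord_ok.2.1
    rwa [List.getD_eq_getElem _ _ (by rw [uWord_ok.1]; norm_num)] at this
  rw [repEl, show (lowRoot : Fin chevE6.nroots).val = 0 from rfl, reachWord, orbOf, h0, uEl, hu]
  simp [wp, wperm_nil]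

theorem exists_decomp {w : Equiv.Perm (Fin chevE6.nroots)} (hw : w ∈ W6) :
    ∃ k : Fin 720, w = repEl (w lowRoot) * xEl k := by
  classical
  let g : Fin chevE6.nroots × Fin 720 → ↥W6 := fun p => ⟨repEl p.1 * xEl p.2, mul_mem (repEl_mem _) (xEl_mem _)⟩
  have hg : Function.Injective g := by
    rintro ⟨s, k⟩ ⟨s', k'⟩ e
    have e1 : repEl s * xEl k = repEl s' * xEl k' := congrArg Subtype.val e
    have hs : s = s' := by
      have := congrArg (fun x : Equiv.Perm (Fin chevE6.nroots) => x lowRoot) e1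
      simpa [Equiv.Perm.mul_apply, xEl_low, repEl_low] using this
    subst hs
    rw [xEl_injective (mul_left_cancel e1)]
  have hbij : Function.Bijective g := by
    refine (Nat.bijective_iff_injective_and_card g).2 ⟨hg, ?_⟩
    rw [card_weyl_eq ⟨checked_E6, descent_E6⟩ E6.chain_ok, Nat.card_prod, Nat.card_fin, Nat.card_fin]
    decide +kernel
  obtain ⟨⟨s, k⟩, e⟩ := hbij.2 ⟨w, hw⟩
  have e1 : repEl s * xEl k = w := congrArg Subtype.val e
  have hs : w lowRoot = s := by rw [← e1, Equiv.Perm.mul_apply, xEl_low, repEl_low]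
  exact ⟨k, by rw [hs, e1]⟩

theorem blockB_spec (U : ℕ) : ∀ (xs : List (ℕ × ℕ × ℕ)) (cs : List (ℕ × List ℕ)), blockB U xs cs = true →
    ∀ m, (hm : m < xs.length) → ∃ c, candB U (xs[m]).2.2 c = true
  | [], [], _, m, hm => absurd hm (by simp)
  | [], _ :: _, h, _, _ => by simp [blockB] at h
  | x :: xs, [], h, _, _ => by simp [blockB] at h
  | x :: xs, c :: cs, h, m, hm => by
    rw [blockB, Bool.and_eq_true] at h
    rcases m with _ | m
    · exact ⟨c, h.1⟩
    · simpa using blockB_spec U xs cs h.2 m (by simpa using hm)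

theorem cand_ok {i : ℕ} (hi : i < 5) {k : ℕ} (hk : k < 720) :
    ∃ c, candB (uPerm.getD i 0) (xPerm k) c = true := by
  have hk' : k < xTab.length := by rw [xTab_length]; exact hk
  rw [xTab_get hk']
  interval_cases i
  · exact blockB_spec _ _ _ block0_ok k hk'
  · exact blockB_spec _ _ _ block1_ok k hk'
  · exact blockB_spec _ _ _ block2_ok k hk'
  · exact blockB_spec _ _ _ block3_ok k hk'
  · exact blockB_spec _ _ _ block4_ok k hk'

/-- Linearity of a function on the roots in the coefficients. -/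
def IsLin {R : Type*} [CommRing R] (a : Fin chevE6.nroots → R) : Prop :=
  ∀ s, a s = ∑ j : Fin chevE6.rank,
    (coef chevE6 E6.cert j.val s.val : R) * a (srootF checked_E6 j.isLt)

theorem eigen_conj {R : Type*} [Field R] {Q : R} (hQ : orderOf Q = 12) (h6 : (6 : R) ≠ 0)
    {i : ℕ} (hi : i < 5) (k : Fin 720) {a : Fin chevE6.nroots → R} (hlin : IsLin a) (ha : a ≠ 0)
    (hw : ∀ s, a ((uEl i * xEl k) s) = Q * a s) :
    ∃ L : List ℕ, (∀ j ∈ L, j < 6) ∧ wp L * (uEl i * xEl k) = wp [0, 1, 2, 3, 4, 5] * wp L := by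
  set w := uEl i * xEl k with hwdef
  set U := uPerm.getD i 0
  set P := xPerm k
  have hwv : ∀ s, (w s).val = lk U (lk P s.val) := fun s => by
    rw [hwdef, Equiv.Perm.mul_apply, uEl_val hi, xEl_val]
  have hit : ∀ n : ℕ, ∀ s : Fin chevE6.nroots, ((w ^ n) s).val = itC U P n s.val ∧ a ((w ^ n) s) = Q ^ n * a s := by
    intro n
    induction n with
    | zero => intro s; simp [itC]
    | succ n ih =>
      intro s
      rw [pow_succ' w, Equiv.Perm.mul_apply, hwv, hw, (ih s).1, (ih s).2, pow_succ']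
      exact ⟨rfl, by ring⟩
  have hsimple : ∀ j : Fin chevE6.rank, (srootF checked_E6 j.isLt).val ∈ smp := fun j => by
    show chevE6.simple j.val ∈ smp
    rw [← smp_ok]
    exact List.mem_map.2 ⟨j.val, List.mem_range.2 j.isLt, rfl⟩
  have hzero : ∀ c : ℕ × List ℕ, candB U P c = true → c.1 ≠ 1 → a = 0 := by
    rintro ⟨o, L⟩ hc hne
    suffices h : ∀ j : Fin chevE6.rank, a (srootF checked_E6 j.isLt) = 0 by
      funext s
      rw [hlin s, Pi.zero_apply]
      exact Finset.sum_eq_zero fun j _ => by rw [h j, mul_zero]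
    intro j
    set α := srootF checked_E6 j.isLt with hα
    rcases o with _ | _ | o
    · simp only [candB, List.all_eq_true, List.mem_range, decide_eq_true_eq] at hc
      have hQ6 : Q ^ 6 = -1 := by
        have h1 : Q ^ 6 * Q ^ 6 = 1 := by
          rw [← pow_add, show (6 + 6 : ℕ) = orderOf Q by omega, pow_orderOf_eq_one]
        exact (mul_self_eq_one_iff.1 h1).resolve_left fun h => by
          have := orderOf_dvd_of_pow_eq_one h
          rw [hQ] at this
          norm_num at this
      have hQ4 : Q ^ 8 + Q ^ 4 + 1 = 0 := by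
        have h1 : (Q ^ 4 - 1) * (Q ^ 8 + Q ^ 4 + 1) = 0 := by
          have : Q ^ 12 = 1 := by rw [← hQ, pow_orderOf_eq_one]
          linear_combination this
        refine (mul_eq_zero.1 h1).resolve_left fun h => ?_
        have := orderOf_dvd_of_pow_eq_one (sub_eq_zero.1 h)
        rw [hQ] at this
        norm_num at this
      have key : 2 * a α - a ((w ^ 4) α) - a ((w ^ 8) α) - 2 * a ((w ^ 6) α) + a ((w ^ 10) α) +
          a ((w ^ 14) α) = 0 := by
        rw [hlin α, hlin ((w ^ 4) α), hlin ((w ^ 8) α), hlin ((w ^ 6) α), hlin ((w ^ 10) α), hlin ((w ^ 14) α)]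
        simp only [Finset.mul_sum, ← Finset.sum_sub_distrib, ← Finset.sum_add_distrib]
        refine Finset.sum_eq_zero fun m _ => ?_
        have h0 := congrArg (fun z : ℤ => (z : R)) (hc α.val (hsimple j) m.val m.isLt)
        simp only [combZ, Int.cast_zero, Int.cast_add, Int.cast_sub, Int.cast_mul, Int.cast_ofNat] at h0
        simp only [(hit 4 α).1, (hit 8 α).1, (hit 6 α).1, (hit 10 α).1, (hit 14 α).1]
        linear_combination (a (srootF checked_E6 m.isLt)) * h0
      rw [(hit 4 α).2, (hit 8 α).2, (hit 6 α).2, (hit 10 α).2, (hit 14 α).2,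
        show Q ^ 10 = Q ^ 4 * Q ^ 6 by ring, show Q ^ 14 = Q ^ 8 * Q ^ 6 by ring, hQ6] at key
      have h2 : (6 : R) * a α = 0 := by linear_combination key + 2 * (a α) * hQ4
      exact (mul_eq_zero.1 h2).resolve_left h6
    · exact absurd rfl hne
    · simp only [candB, Bool.and_eq_true, List.all_eq_true, decide_eq_true_eq, Nat.beq_eq] at hc
      have e1 : (w ^ (o + 2)) α = α := Fin.ext (by rw [(hit _ α).1]; exact hc.2 _ (hsimple j))
      have e2 := (hit (o + 2) α).2
      rw [e1] at e2
      have hQo : Q ^ (o + 2) ≠ 1 := fun h => by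
        have := Nat.le_of_dvd (by omega) (orderOf_dvd_of_pow_eq_one h)
        rw [hQ] at this
        omega
      have h3 : (Q ^ (o + 2) - 1) * a α = 0 := by linear_combination -e2
      exact (mul_eq_zero.1 h3).resolve_left (sub_ne_zero.2 hQo)
  obtain ⟨⟨o, L⟩, hc⟩ := cand_ok hi k.2
  by_cases ho : o = 1
  · subst ho
    simp only [candB, Bool.and_eq_true, List.all_eq_true, decide_eq_true_eq, List.mem_range, Nat.beq_eq] at hc
    refine ⟨L, hc.1, Equiv.ext fun s => Fin.ext ?_⟩
    rw [Equiv.Perm.mul_apply, wp_val hc.1, hwv, Equiv.Perm.mul_apply,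
      wp_val (show ∀ i ∈ [0, 1, 2, 3, 4, 5], i < 6 by decide), wp_val hc.1]
    exact hc.2 s.val s.2
  · exact absurd (hzero _ hc ho) ha

/-- The classification. -/
theorem exists_conj_coxeter {R : Type*} [Field R] {Q : R} (hQ : orderOf Q = 12) (h6 : (6 : R) ≠ 0)
    {w : Equiv.Perm (Fin chevE6.nroots)} (hw : w ∈ W6)
    {a : Fin chevE6.nroots → R} (hlin : IsLin a) (ha : a ≠ 0)
    (hlinW : ∀ x ∈ W6, IsLin fun s => a (x s)) (hwa : ∀ s, a (w s) = Q * a s) :
    ∃ y ∈ W6, y * w * y⁻¹ = wp [0, 1, 2, 3, 4, 5] := by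
  obtain ⟨k, hk⟩ := exists_decomp hw
  set s := w lowRoot
  set y := wp (reachWord s) with hy
  have hy0 : y lowRoot = lowRoot := Fin.ext (by
    rw [hy, wp_val (fun j hj => stabJ_lt ((reach_spec s.2).2.1 j hj))]
    exact runR_low (reach_spec s.2).2.1)
  have hyW : y ∈ W6 := mem_W6 fun j hj => stabJ_lt ((reach_spec s.2).2.1 j hj)
  obtain ⟨k', hk'⟩ := exists_decomp (mul_mem (xEl_mem k) hyW)
  rw [Equiv.Perm.mul_apply, hy0, xEl_low, repEl_lowRoot, one_mul] at hk'
  have e : y⁻¹ * w * y = uEl (orbOf s) * xEl k' := by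
    rw [← hk', hk, repEl, ← hy]; group
  obtain ⟨L, hL, eL⟩ := eigen_conj hQ h6 (reach_spec s.2).1 k' (a := fun t => a (y t)) (hlinW y hyW)
    (fun h => ha (funext fun t => by
      have := congrFun h (y⁻¹ t)
      simpa using this))
    (fun t => by
      rw [← e]
      simp only [Equiv.Perm.mul_apply, Equiv.Perm.inv_def, Equiv.apply_symm_apply, hwa])
  refine ⟨wp L * y⁻¹, mul_mem (mem_W6 hL) (inv_mem hyW), ?_⟩
  calc wp L * y⁻¹ * w * (wp L * y⁻¹)⁻¹ = (wp L * (y⁻¹ * w * y)) * (wp L)⁻¹ := by group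
    _ = _ := by rw [e, eL, mul_inv_cancel_right]

end Cfsg.Agent.Lib.E6Twist
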