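import Cfsg.Agent.Lib.E6Twist.Classify
import Cfsg.Agent.Lib.H59.Homocyclic.SelfCent

/-!
The product of the six fundamental reflections of type E6 on the coroot lattice, and its twisted fixed points.
-/

set_option autoImplicit false

namespace Cfsg.Agent.Lib.E6Twist

open Cfsg.Lie Cfsg.Agent.Lib.Chev Cfsg.Agent.Lib.H59.Homocyclic Polynomial
open scoped Matrix

/-- The matrix on the coroot lattice. -/
def coxMat : Matrix (Fin chevE6.rank) (Fin chevE6.rank) ℤ :=
  Matrix.of fun i j =>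
    (([[0, 1, 0, 0, 0, -1], [0, 0, 1, 0, 0, -1], [1, 1, 0, 0, 0, -1], [0, 1, 1, 0, 0, -1], [0, 0, 0, 1, 0, -1],
      [0, 0, 0, 0, 1, -1]] : List (List ℤ)).getD i.val []).getD j.val 0

/-- The product of reflection matrices of a word. -/
def matW (L : List ℕ) : Matrix (Fin chevE6.rank) (Fin chevE6.rank) ℤ :=
  (L.map (reflMat chevE6 E6.cert)).prod

theorem iota_matW {R : Type*} [CommRing R] : ∀ {L : List ℕ}, (∀ i ∈ L, i < 6) → ∀ lam : Fin chevE6.rank → R,
    iota chevE6 R ((matW L).map (Int.castRingHom R) *ᵥ lam) = act (wp L) (iota chevE6 R lam)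
  | [], _, lam => by simp [matW, wp, wperm_nil, act_one]
  | i :: L, hL, lam => by
    rw [matW, List.map_cons, List.prod_cons, Matrix.map_mul, ← Matrix.mulVec_mulVec,
      iota_reflMat checked_E6 (hL i List.mem_cons_self), ← matW, iota_matW (fun j hj => hL j (List.mem_cons_of_mem _ hj)), ← act_mul]
    exact congrArg (fun w => act w _) (wperm_cons checked_E6 i L).symm

theorem coxMat_eq : coxMat = matW [0, 1, 2, 3, 4, 5] := by decide +kernel

theorem iota_coxMat {R : Type*} [CommRing R] (lam : Fin chevE6.rank → R) :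
    iota chevE6 R (coxMat.map (Int.castRingHom R) *ᵥ lam) = act (wp [0, 1, 2, 3, 4, 5]) (iota chevE6 R lam) := by
  rw [coxMat_eq]; exact iota_matW (by decide) lam

/-- The coordinate functionals in a cyclic basis. -/
def coordMat : Matrix (Fin chevE6.rank) (Fin chevE6.rank) ℤ :=
  Matrix.of fun i j =>
    (([[1, 0, 0, 0, -1, 1], [0, 0, 1, 0, -1, 0], [0, 1, 0, 0, 0, -1], [0, 0, 0, 0, 1, -1], [0, 0, 0, 0, 0, 1],
      [0, -1, 0, 1, -1, 1]] : List (List ℤ)).getD i.val []).getD j.val 0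

/-- The cyclic basis. -/
def basisMat : Matrix (Fin chevE6.rank) (Fin chevE6.rank) ℤ :=
  Matrix.of fun i j =>
    (([[1, 0, 0, 0, 0, 0], [0, 0, 1, 0, 0, 0], [0, 1, 0, 1, 0, 0], [1, 0, 1, 1, 1, 0], [0, 1, 1, 1, 1, 1],
      [0, 0, 0, 1, 0, 0]] : List (List ℤ)).getD j.val []).getD i.val 0

/-- The companion matrix of `X⁶ + X⁵ - X³ + X + 1`. -/
def compMat : Matrix (Fin chevE6.rank) (Fin chevE6.rank) ℤ :=
  Matrix.of fun i j =>
    (([[0, 0, 0, 0, 0, -1], [1, 0, 0, 0, 0, -1], [0, 1, 0, 0, 0, 0], [0, 0, 1, 0, 0, 1], [0, 0, 0, 1, 0, 0],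
      [0, 0, 0, 0, 1, -1]] : List (List ℤ)).getD i.val []).getD j.val 0

theorem basis_coord : basisMat * coordMat = 1 ∧ coordMat * basisMat = 1 ∧
    coordMat * coxMat = compMat * coordMat := by decide +kernel

/-- The coordinates of a fixed point with last coordinate `1`. -/
def fixCoord (q : ℤ) : Fin chevE6.rank → ℤ := fun i =>
  [q ^ 5 + q ^ 4 - q ^ 2 + 1, q ^ 4 + q ^ 3 - q, q ^ 3 + q ^ 2 - 1, q ^ 2 + q, q + 1, 1].getD i.val 0

/-- The order of the twisted fixed points. -/
def twistOrder (q : ℕ) : ℕ := (q ^ 4 - q ^ 2 + 1) * (q ^ 2 + q + 1)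

theorem cast_twistOrder (q : ℕ) {R : Type*} [CommRing R] :
    (twistOrder q : R) = (q : R) ^ 6 + (q : R) ^ 5 - (q : R) ^ 3 + (q : R) + 1 := by
  have h : q ^ 2 ≤ q ^ 4 := by
    rcases Nat.eq_zero_or_pos q with rfl | h
    · simp
    · exact Nat.pow_le_pow_right h (by norm_num)
  rw [twistOrder]
  push_cast [Nat.cast_sub h]
  ring

section Fixed

variable {M : ℕ} (q : ℕ)

/-- The standard generator of the twisted fixed points, up to a scalar. -/
def fixVec (M q : ℕ) : Fin chevE6.rank → ZMod M :=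
  basisMat.map (Int.castRingHom (ZMod M)) *ᵥ fun i => ((fixCoord q i : ℤ) : ZMod M)

theorem comp_apply {R : Type*} [CommRing R] (x : Fin chevE6.rank → R) (i : Fin chevE6.rank) :
    (compMat.map (Int.castRingHom R) *ᵥ x) i =
      [-x ⟨5, by decide⟩, x ⟨0, by decide⟩ - x ⟨5, by decide⟩, x ⟨1, by decide⟩,
        x ⟨2, by decide⟩ + x ⟨5, by decide⟩, x ⟨3, by decide⟩, x ⟨4, by decide⟩ - x ⟨5, by decide⟩].getD i.val 0 := by
  simp only [Matrix.mulVec, dotProduct, compMat, Matrix.map_apply, Matrix.of_apply, Int.coe_castRingHom]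
  refine (Fin.sum_univ_six (fun j : Fin 6 => _)).trans ?_
  obtain ⟨i, hi⟩ := i
  change i < 6 at hi
  interval_cases i <;> simp [sub_eq_add_neg] <;> rfl

theorem mem_twistFix_iff {lam : Fin chevE6.rank → ZMod M} :
    lam ∈ twistFix coxMat q M ↔ ∃ t : ZMod M, (twistOrder q : ZMod M) * t = 0 ∧ lam = t • fixVec M q := by
  obtain ⟨hBK, hKB, hKC⟩ := basis_coord
  set c := Int.castRingHom (ZMod M)
  set B := basisMat.map c
  set K := coordMat.map c
  have hBK' : B * K = 1 := by rw [← Matrix.map_mul, hBK, Matrix.map_one _ (map_zero _) (map_one _)]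
  have hKB' : K * B = 1 := by rw [← Matrix.map_mul, hKB, Matrix.map_one _ (map_zero _) (map_one _)]
  have hKC' : K * coxMat.map c = compMat.map c * K := by rw [← Matrix.map_mul, hKC, Matrix.map_mul]
  rw [mem_twistFix]
  set y := K *ᵥ lam with hy
  have key : coxMat.map c *ᵥ lam = (q : ZMod M) • lam ↔ compMat.map c *ᵥ y = (q : ZMod M) • y := by
    constructor
    · intro h
      rw [hy, Matrix.mulVec_mulVec, ← hKC', ← Matrix.mulVec_mulVec, h, Matrix.mulVec_smul]
    · intro h
      rw [hy, Matrix.mulVec_mulVec, ← hKC', ← Matrix.mulVec_mulVec, ← Matrix.mulVec_smul] at h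
      have := congrArg (B *ᵥ ·) h
      simpa [Matrix.mulVec_mulVec, ← Matrix.mul_assoc, hBK'] using this
  rw [key]
  have hlam : ∀ v, (lam = B *ᵥ v ↔ y = v) := fun v =>
    ⟨fun h => by rw [hy, h, Matrix.mulVec_mulVec, hKB', Matrix.one_mulVec],
     fun h => by rw [← h, hy, Matrix.mulVec_mulVec, hBK', Matrix.one_mulVec]⟩
  constructor
  · intro h
    have e0 := (comp_apply y ⟨0, by decide⟩).symm.trans (congrFun h ⟨0, by decide⟩)
    have e1 := (comp_apply y ⟨1, by decide⟩).symm.trans (congrFun h ⟨1, by decide⟩)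
    have e2 := (comp_apply y ⟨2, by decide⟩).symm.trans (congrFun h ⟨2, by decide⟩)
    have e3 := (comp_apply y ⟨3, by decide⟩).symm.trans (congrFun h ⟨3, by decide⟩)
    have e4 := (comp_apply y ⟨4, by decide⟩).symm.trans (congrFun h ⟨4, by decide⟩)
    have e5 := (comp_apply y ⟨5, by decide⟩).symm.trans (congrFun h ⟨5, by decide⟩)
    simp only [comp_apply, List.getD_cons_zero, List.getD_cons_succ, Pi.smul_apply, smul_eq_mul] at e0 e1 e2 e3 e4 e5
    set t := y ⟨5, by decide⟩ with ht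
    set Q := (q : ZMod M)
    have h4 : y ⟨4, by decide⟩ = (Q + 1) * t := by linear_combination e5
    have h3 : y ⟨3, by decide⟩ = (Q ^ 2 + Q) * t := by linear_combination e4 + Q * h4
    have h2 : y ⟨2, by decide⟩ = (Q ^ 3 + Q ^ 2 - 1) * t := by linear_combination e3 + Q * h3
    have h1 : y ⟨1, by decide⟩ = (Q ^ 4 + Q ^ 3 - Q) * t := by linear_combination e2 + Q * h2
    have h0 : y ⟨0, by decide⟩ = (Q ^ 5 + Q ^ 4 - Q ^ 2 + 1) * t := by linear_combination e1 + Q * h1
    refine ⟨t, ?_, ?_⟩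
    · rw [cast_twistOrder]
      linear_combination -e0 - Q * h0
    · rw [fixVec, ← Matrix.mulVec_smul, hlam]
      funext i
      obtain ⟨i, hi⟩ := i
      simp only [fixCoord, Pi.smul_apply, smul_eq_mul]
      change i < 6 at hi
      interval_cases i
      · push_cast [h0]; simp [Q]; ring
      · push_cast [h1]; simp [Q]; ring
      · push_cast [h2]; simp [Q]; ring
      · push_cast [h3]; simp [Q]; ring
      · push_cast [h4]; simp [Q]; ring
      · simp [ht]
  · rintro ⟨t, ht, e⟩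
    rw [fixVec, ← Matrix.mulVec_smul, hlam] at e
    rw [e]
    rw [cast_twistOrder] at ht
    funext i
    rw [comp_apply]
    obtain ⟨i, hi⟩ := i
    simp only [fixCoord, Pi.smul_apply, smul_eq_mul]
    change i < 6 at hi
    interval_cases i <;>
      simp only [List.getD_cons_zero, List.getD_cons_succ] <;> push_cast
    · linear_combination -ht
    all_goals ring

end Fixed

end Cfsg.Agent.Lib.E6Twist
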