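import Cfsg.Agent.Lib.E6Twist.Coxeter

/-!
The twisted fixed points of the product of the fundamental reflections and the central kernel of the Cartan map.
-/

set_option autoImplicit false

namespace Cfsg.Agent.Lib.E6Twist

open Cfsg.Lie Cfsg.Agent.Lib.Chev Cfsg.Agent.Lib.H59.Homocyclic
open scoped Matrix

/-- Three times the inverse of the Cartan matrix. -/
def adjMat : Matrix (Fin chevE6.rank) (Fin chevE6.rank) ℤ :=
  Matrix.of fun i j =>
    (([[4, 3, 5, 6, 4, 2], [3, 6, 6, 9, 6, 3], [5, 6, 10, 12, 8, 4], [6, 9, 12, 18, 12, 6], [4, 6, 8, 12, 10, 5],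
      [2, 3, 4, 6, 5, 4]] : List (List ℤ)).getD i.val []).getD j.val 0

theorem adjMat_ok : cmMat chevE6 E6.cert * adjMat = 3 := by decide +kernel

variable {R : Type*} [CommRing R]

theorem three_smul_of_iota {u : Fin chevE6.rank → R} (h : iota chevE6 R u = 0) : (3 : R) • u = 0 := by
  have e : u ᵥ* (cmMat chevE6 E6.cert).map (Int.castRingHom R) = 0 := by
    funext j
    have := congrFun h ⟨chevE6.simple j.val, checked_E6.simple_lt j.2⟩
    rw [iota_apply, Pi.zero_apply] at this
    rw [Pi.zero_apply, ← this]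
    simp only [Matrix.vecMul, dotProduct, Matrix.map_apply, cmMat, Matrix.of_apply]
    exact Finset.sum_congr rfl fun i _ => by rw [checked_E6.cm_eq j.2 i.2, mul_comm]; rfl
  have h3 : (3 : Matrix (Fin chevE6.rank) (Fin chevE6.rank) ℤ).map (Int.castRingHom R) =
      (3 : Matrix (Fin chevE6.rank) (Fin chevE6.rank) R) := by
    show (Int.castRingHom R).mapMatrix 3 = _
    exact map_ofNat _ 3
  calc (3 : R) • u = u ᵥ* (3 : Matrix (Fin chevE6.rank) (Fin chevE6.rank) R) := by
        rw [← Matrix.diagonal_ofNat]; funext i; simp [Matrix.vecMul_diagonal, mul_comm]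
    _ = u ᵥ* ((cmMat chevE6 E6.cert).map (Int.castRingHom R) * adjMat.map (Int.castRingHom R)) := by
        rw [← Matrix.map_mul, adjMat_ok, h3]
    _ = 0 := by rw [← Matrix.vecMul_vecMul, e, Matrix.zero_vecMul]

theorem eq_of_iota_of_smul {r : ℕ} (hr : r.Coprime 3) {u v : Fin chevE6.rank → R} (hu : r • u = 0) (hv : r • v = 0)
    (h : iota chevE6 R u = iota chevE6 R v) : u = v := by
  have h3 : (3 : ℕ) • (u - v) = 0 := by
    rw [← Nat.cast_smul_eq_nsmul R]
    exact three_smul_of_iota (by rw [map_sub, h, sub_self])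
  have hr0 : r • (u - v) = 0 := by rw [nsmul_sub, hu, hv, sub_zero]
  have h1 : addOrderOf (u - v) ∣ 1 := hr ▸ Nat.dvd_gcd (addOrderOf_dvd_of_nsmul_eq_zero hr0)
    (addOrderOf_dvd_of_nsmul_eq_zero h3)
  exact sub_eq_zero.1 (AddMonoid.addOrderOf_eq_one_iff.1 (Nat.dvd_one.1 h1))

theorem coxMat_fixes_of_iota {u : Fin chevE6.rank → R} (h : iota chevE6 R u = 0) :
    coxMat.map (Int.castRingHom R) *ᵥ u = u := by
  have key : ∀ i, i < 6 → (reflMat chevE6 E6.cert i).map (Int.castRingHom R) *ᵥ u = u := by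
    intro i hi
    funext a
    have e := congrFun h (srootF checked_E6 (show i < chevE6.rank from hi))
    rw [iota_apply, Pi.zero_apply] at e
    simp only [Matrix.mulVec, dotProduct, Matrix.map_apply, reflMat, Matrix.of_apply, Int.coe_castRingHom, Int.cast_sub,
      sub_mul, Finset.sum_sub_distrib]
    rw [Finset.sum_eq_single a (fun b _ hb => by simp [Ne.symm hb]) (fun hn => absurd (Finset.mem_univ a) hn)]
    rw [if_pos rfl, Int.cast_one, one_mul]
    by_cases ha : a.val = i
    · have e' : ∑ b : Fin chevE6.rank, ((if a.val = i then cm E6.cert b.val i else 0 : ℤ) : R) * u b = 0 := by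
        rw [← e]
        refine Finset.sum_congr rfl fun b _ => ?_
        rw [if_pos ha, show ((srootF checked_E6 (show i < chevE6.rank from hi) : Fin chevE6.nroots) : ℕ) =
          chevE6.simple i from rfl, checked_E6.cm_eq (show i < chevE6.rank from hi) b.2]
      rw [e', sub_zero]
    · simp [ha]
  rw [coxMat_eq]
  have : ∀ L : List ℕ, (∀ i ∈ L, i < 6) → (matW L).map (Int.castRingHom R) *ᵥ u = u := by
    intro L
    induction L with
    | nil => intro _; simp [matW]
    | cons i L ih =>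
      intro hL
      rw [matW, List.map_cons, List.prod_cons, Matrix.map_mul, ← Matrix.mulVec_mulVec, ← matW,
        ih (fun j hj => hL j (List.mem_cons_of_mem _ hj)), key i (hL i List.mem_cons_self)]
  exact this _ (by decide)

section Gen

variable {M q : ℕ}

/-- A generator of the twisted fixed points. -/
def genVec (M q : ℕ) : Fin chevE6.rank → ZMod M := ((M / twistOrder q : ℕ) : ZMod M) • fixVec M q

theorem nsmul_genVec (n : ℕ) : n • genVec M q = ((n * (M / twistOrder q) : ℕ) : ZMod M) • fixVec M q := by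
  rw [genVec, ← Nat.cast_smul_eq_nsmul (ZMod M), smul_smul, ← Nat.cast_mul]

theorem genVec_mem [NeZero M] (hN : twistOrder q ∣ M) : genVec M q ∈ twistFix coxMat q M := by
  rw [mem_twistFix_iff]
  refine ⟨_, ?_, rfl⟩
  rw [← Nat.cast_mul, Nat.mul_div_cancel' hN, ZMod.natCast_self]

theorem exists_nsmul_genVec [NeZero M] (hN : twistOrder q ∣ M) {lam : Fin chevE6.rank → ZMod M}
    (h : lam ∈ twistFix coxMat q M) : ∃ n : ℕ, lam = n • genVec M q := by
  obtain ⟨t, ht, rfl⟩ := (mem_twistFix_iff q).1 h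
  rw [← ZMod.natCast_zmod_val t, ← Nat.cast_mul, ZMod.natCast_eq_zero_iff] at ht
  obtain ⟨c, hc⟩ := hN
  have hN0 : 0 < twistOrder q := by
    by_contra h0
    exact NeZero.ne M (by rw [hc, Nat.eq_zero_of_not_pos h0, zero_mul])
  obtain ⟨k, hk⟩ := Nat.dvd_of_mul_dvd_mul_left hN0 ((dvd_of_eq hc.symm).trans ht)
  refine ⟨k, ?_⟩
  have hdiv : M / twistOrder q = c := by rw [hc, Nat.mul_div_cancel_left _ hN0]
  rw [nsmul_genVec, hdiv, mul_comm k c, ← hk, ZMod.natCast_zmod_val]

theorem twistOrder_dvd_of_nsmul [NeZero M] (hN : twistOrder q ∣ M) {n : ℕ} (h : n • genVec M q = 0) :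
    twistOrder q ∣ n := by
  set c := Int.castRingHom (ZMod M)
  rw [nsmul_genVec, fixVec, ← Matrix.mulVec_smul] at h
  have h1 := congrArg (coordMat.map c *ᵥ ·) h
  have hKB : coordMat.map c * basisMat.map (Int.castRingHom (ZMod M)) = 1 := by
    rw [← Matrix.map_mul, basis_coord.2.1, Matrix.map_one _ (map_zero _) (map_one _)]
  simp only [Matrix.mulVec_zero, Matrix.mulVec_mulVec] at h1
  rw [hKB, Matrix.one_mulVec] at h1
  have h2 := congrFun h1 ⟨5, by decide⟩
  replace h2 : ((n * (M / twistOrder q) : ℕ) : ZMod M) = 0 := by simpa [fixCoord] using h2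

  rw [ZMod.natCast_eq_zero_iff] at h2
  obtain ⟨d, hd⟩ := hN
  have hN0 : 0 < twistOrder q := by
    by_contra h0
    exact NeZero.ne M (by rw [hd, Nat.eq_zero_of_not_pos h0, zero_mul])
  have hd0 : 0 < d := Nat.pos_of_ne_zero fun h0 => NeZero.ne M (by rw [hd, h0, mul_zero])
  have hdiv : M / twistOrder q = d := by rw [hd, Nat.mul_div_cancel_left _ hN0]
  rw [hdiv] at h2
  exact Nat.dvd_of_mul_dvd_mul_right hd0 ((dvd_of_eq hd.symm).trans h2)

theorem twistOrder_nsmul [NeZero M] (hN : twistOrder q ∣ M) : twistOrder q • genVec M q = 0 := by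
  rw [nsmul_genVec, Nat.mul_div_cancel' hN, ZMod.natCast_self, zero_smul]

theorem gcd_cases (q : ℕ) : Nat.gcd 3 (q - 1) = 1 ∨ Nat.gcd 3 (q - 1) = 3 :=
  (Nat.dvd_prime Nat.prime_three).1 (Nat.gcd_dvd_left _ _)

theorem twist_residue (hq : 1 ≤ q) : Nat.gcd 3 (q - 1) ∣ twistOrder q ∧
    (twistOrder q / Nat.gcd 3 (q - 1)).Coprime 3 := by
  have key : ∀ x : ZMod 9, (x.val % 3 = 1 → x ^ 6 + x ^ 5 - x ^ 3 + x + 1 = 3) ∧
      (x.val % 3 ≠ 1 → (x ^ 6 + x ^ 5 - x ^ 3 + x + 1).val % 3 ≠ 0) := by decide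
  have hv : ((q : ZMod 9)).val % 3 = q % 3 := by rw [ZMod.val_natCast]; omega
  have hN : twistOrder q % 9 = ((q : ZMod 9) ^ 6 + (q : ZMod 9) ^ 5 - (q : ZMod 9) ^ 3 + (q : ZMod 9) + 1).val := by
    rw [← cast_twistOrder, ZMod.val_natCast]
  rcases gcd_cases q with h | h <;> rw [h]
  · have hq3 : q % 3 ≠ 1 := fun h1 => by
      have : 3 ∣ Nat.gcd 3 (q - 1) := Nat.dvd_gcd dvd_rfl (by omega)
      rw [h] at this; norm_num at this
    have h2 := (key q).2 (by rw [hv]; exact hq3)
    refine ⟨one_dvd _, ?_⟩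
    rw [Nat.div_one, Nat.coprime_comm, Nat.prime_three.coprime_iff_not_dvd]
    intro h3; rw [← hN] at h2; omega
  · have hq3 : q % 3 = 1 := by
      have : 3 ∣ q - 1 := h ▸ Nat.gcd_dvd_right 3 (q - 1)
      omega
    have h2 := (key q).1 (by rw [hv]; exact hq3)
    rw [h2] at hN
    have h9 : twistOrder q % 9 = 3 := hN
    refine ⟨by omega, ?_⟩
    rw [Nat.coprime_comm, Nat.prime_three.coprime_iff_not_dvd]
    omega

theorem iota_nsmul_genVec [NeZero M] (hq : 1 ≤ q) (hN : twistOrder q ∣ M) (n : ℕ) :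
    iota chevE6 (ZMod M) (n • genVec M q) = 0 ↔ twistOrder q / Nat.gcd 3 (q - 1) ∣ n := by
  set d := Nat.gcd 3 (q - 1) with hd
  have hd0 : 0 < d := Nat.gcd_pos_of_pos_left _ (by norm_num)
  obtain ⟨hdN, -⟩ := twist_residue hq
  constructor
  · intro h
    have hmem : n • genVec M q ∈ twistFix coxMat q M := AddSubgroup.nsmul_mem _ (genVec_mem hN) n
    have hfix := coxMat_fixes_of_iota h
    rw [mem_twistFix.1 hmem] at hfix
    have h1 : (q - 1) • (n • genVec M q) = 0 := by
      rw [← Nat.cast_smul_eq_nsmul (ZMod M) (q - 1), Nat.cast_sub hq, Nat.cast_one, sub_smul, one_smul, hfix, sub_self]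
    have h3 : 3 • (n • genVec M q) = 0 := by
      rw [← Nat.cast_smul_eq_nsmul (ZMod M) 3]
      exact three_smul_of_iota h
    have h2 : d • (n • genVec M q) = 0 := by
      rw [← addOrderOf_dvd_iff_nsmul_eq_zero]
      exact Nat.dvd_gcd (addOrderOf_dvd_of_nsmul_eq_zero h3) (addOrderOf_dvd_of_nsmul_eq_zero h1)
    rw [smul_smul] at h2
    have h4 := twistOrder_dvd_of_nsmul hN h2
    rwa [← Nat.mul_div_cancel' hdN, Nat.mul_dvd_mul_iff_left hd0] at h4
  · rintro ⟨k, rfl⟩
    suffices h : iota chevE6 (ZMod M) ((twistOrder q / d) • genVec M q) = 0 by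
      rw [mul_comm, mul_smul, map_nsmul, h, smul_zero]
    rcases gcd_cases q with h | h <;> rw [← hd] at h <;> rw [h]
    · rw [Nat.div_one, twistOrder_nsmul hN, map_zero]
    · have h3N : 3 ∣ twistOrder q := h ▸ hdN
      obtain ⟨c, hc⟩ := hN
      have hq3 : (q : ZMod 3) = 1 := by
        have h3 : 3 ∣ q - 1 := h ▸ Nat.gcd_dvd_right 3 (q - 1)
        have : ((q - 1 : ℕ) : ZMod 3) = 0 := (ZMod.natCast_eq_zero_iff _ _).2 h3
        rwa [Nat.cast_sub hq, Nat.cast_one, sub_eq_zero] at this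
      have hdec : ∀ s : Fin chevE6.nroots, (((∑ i : Fin chevE6.rank, chevE6.cartan i.val s.val *
          (∑ j : Fin chevE6.rank, basisMat i j * fixCoord 1 j) : ℤ)) : ZMod 3) = 0 := by decide +kernel
      funext s
      set V : ℤ := ∑ i : Fin chevE6.rank, chevE6.cartan i.val s.val *
          (∑ j : Fin chevE6.rank, basisMat i j * fixCoord q j) with hV
      have hV3 : (V : ZMod 3) = 0 := by
        rw [← hdec s, hV]
        push_cast
        refine Finset.sum_congr rfl fun i _ => ?_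
        congr 1
        refine Finset.sum_congr rfl fun j _ => ?_
        congr 1
        obtain ⟨j, hj⟩ := j
        change j < 6 at hj
        interval_cases j <;> simp [fixCoord, hq3] <;> norm_num
      rw [ZMod.intCast_zmod_eq_zero_iff_dvd] at hV3
      obtain ⟨e, he⟩ := hV3
      have hval : iota chevE6 (ZMod M) (fixVec M q) s = (V : ZMod M) := by
        rw [iota_apply, hV]
        push_cast
        refine Finset.sum_congr rfl fun i _ => ?_
        congr 1

      rw [nsmul_genVec, map_smul, Pi.smul_apply, hval, smul_eq_mul, Pi.zero_apply, he]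
      push_cast
      rw [← mul_assoc, show ((twistOrder q / 3 : ℕ) : ZMod M) * ((M / twistOrder q : ℕ) : ZMod M) * 3 = 0 from ?_,
        zero_mul]
      rw [show (3 : ZMod M) = ((3 : ℕ) : ZMod M) by norm_num, ← Nat.cast_mul, ← Nat.cast_mul, mul_right_comm,
        Nat.div_mul_cancel h3N, Nat.mul_div_cancel' ⟨c, hc⟩, ZMod.natCast_self]

theorem exists_fixed_rep (hq : 1 ≤ q) (hd : Nat.gcd 3 (q - 1) = 1) {lam : Fin chevE6.rank → ZMod M}
    (h : iota chevE6 (ZMod M) (coxMat.map (Int.castRingHom (ZMod M)) *ᵥ lam - (q : ZMod M) • lam) = 0) :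
    ∃ lam' ∈ twistFix coxMat q M, iota chevE6 (ZMod M) lam' = iota chevE6 (ZMod M) lam := by
  set zz := coxMat.map (Int.castRingHom (ZMod M)) *ᵥ lam - (q : ZMod M) • lam with hzz
  obtain ⟨k, hk⟩ : ∃ k : ℤ, (3 : ℤ) ∣ k * (1 - (q : ℤ)) - 1 := by
    have hne : ¬ 3 ∣ q - 1 := fun h3 => by
      have := Nat.dvd_gcd (dvd_refl 3) h3
      rw [hd] at this; norm_num at this
    rcases (show q % 3 = 0 ∨ q % 3 = 2 by omega) with h0 | h0
    · exact ⟨1, by omega⟩
    · exact ⟨-1, by omega⟩
  obtain ⟨e, he⟩ := hk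
  refine ⟨lam - (k : ZMod M) • zz, ?_, by rw [map_sub, map_smul, h, smul_zero, sub_zero]⟩
  rw [mem_twistFix, Matrix.mulVec_sub, Matrix.mulVec_smul, coxMat_fixes_of_iota h]
  have h3 := three_smul_of_iota h
  have hk' : ((k : ZMod M) * (1 - (q : ZMod M))) • zz = zz := by
    have := congrArg (fun a : ℤ => (a : ZMod M)) he
    push_cast at this
    rw [sub_eq_iff_eq_add] at this
    rw [this, add_smul, one_smul, mul_comm, mul_smul, h3, smul_zero, zero_add]
  have hlam : coxMat.map (Int.castRingHom (ZMod M)) *ᵥ lam = zz + (q : ZMod M) • lam := by rw [hzz, sub_add_cancel]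
  rw [hlam, smul_sub, smul_smul]
  nth_rw 1 [← hk']
  module

end Gen

end Cfsg.Agent.Lib.E6Twist
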