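import Cfsg.Agent.Lib.E6Twist.SelfCent

/-!
An element of the group of type E6 over a field extension of degree twelve whose Frobenius quotient is the monomial
element of the product of the fundamental reflections, up to a diagonal factor.
-/

set_option autoImplicit false

namespace Cfsg.Agent.Lib.E6Twist

open Cfsg.Lie Cfsg.Agent.Lib.Chev Cfsg.Agent.Lib.ChevField Cfsg.Agent.Lib.H59.Homocyclic
open scoped Matrix

set_option maxHeartbeats 1600000 in
theorem exists_lang {F K : Type*} [Field F] [Fintype F] [Field K] [Fintype K]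
    (hK : Fintype.card K = Fintype.card F ^ 12) (f : F →+* K) (σ : K →+* K)
    (hσ : ∀ x, σ x = x ^ Fintype.card F) (hσf : ∀ a, σ (f a) = f a) :
    ∃ g ∈ chevE6.group K, ∃ t ∈ chevE6.diagonalSubgroup K,
      glMap chevE6 σ g * g⁻¹ = t * nProd checked_E6 K [0, 1, 2, 3, 4, 5] := by
  classical
  have hh : Rooted chevE6 E6.cert := ⟨checked_E6, descent_E6⟩
  set q := Fintype.card F with hq
  have hq2 : 2 ≤ q := Fintype.one_lt_card
  obtain ⟨r, hpr, hr5, hrq, hord⟩ := exists_prime_twelve hq2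
  haveI : Fact r.Prime := ⟨hpr⟩
  have hr3 : r.Coprime 3 := (Nat.coprime_primes hpr Nat.prime_three).2 (by omega)
  have hsd' : ∀ i < chevE6.rank, ¬ r ∣ [1, 1, 1, 1, 1, 3].getD i 0 := by
    intro i hi h
    change i < 6 at hi
    interval_cases i <;> simp only [List.getD_cons_zero, List.getD_cons_succ] at h <;>
      have := Nat.le_of_dvd (by norm_num) h <;> omega
  have hdse : ∀ e ∈ E6.degs, ¬ r ∣ e := by
    intro e he h
    have hr13 : 13 ≤ r := by
      have : 12 ∣ r - 1 := hord ▸ orderOf_dvd_of_pow_eq_one (ZMod.pow_card_sub_one_eq_one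
        (fun h0 => by rw [h0, orderOf_zero] at hord; norm_num at hord))
      have := Nat.le_of_dvd (by omega) this
      omega
    simp only [E6.degs, List.mem_cons, List.not_mem_nil, or_false] at he
    rcases he with rfl | rfl | rfl | rfl | rfl | rfl <;> have := Nat.le_of_dvd (by norm_num) h <;> omega
  obtain ⟨hGF, -⟩ := factorization_group hh (K := F) E6.smith_ok E6.chain_ok E6.poly_ok hsd' hdse hrq
  rw [← hq, hord] at hGF
  have hrqd : r ∣ q ^ 12 - 1 := by
    rw [← ZMod.natCast_eq_zero_iff, Nat.cast_sub (Nat.one_le_pow _ _ (by omega)), Nat.cast_pow, Nat.cast_one,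
      ← hord, pow_orderOf_eq_one, sub_self]
  have hne : q ^ 12 - 1 ≠ 0 := by
    have : q ≤ q ^ 12 := Nat.le_self_pow (by norm_num) q
    omega
  have hrG : r ∣ Nat.card ↥(chevE6.group F) := by
    refine (Nat.Prime.dvd_iff_one_le_factorization hpr Nat.card_pos.ne').2 ?_
    rw [hGF]
    refine Nat.one_le_iff_ne_zero.2 (mul_ne_zero ?_ ?_)
    · exact (hpr.factorization_pos_of_dvd hne hrqd).ne'
    · exact (List.length_pos_of_mem (List.mem_filter.2 ⟨show 12 ∈ E6.degs by decide, by simp⟩)).ne'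
  obtain ⟨x0, hx0⟩ := exists_prime_orderOf_dvd_card' r hrG
  set M := q ^ 12 - 1 with hM
  haveI : NeZero M := ⟨hne⟩
  have hM3 : 3 ≤ M := by
    have : 2 ^ 12 ≤ q ^ 12 := Nat.pow_le_pow_left hq2 12
    omega
  obtain ⟨z, hz⟩ := exists_zmodHom (K := K) (m := M) (by rw [Nat.card_eq_fintype_card, hK]) (NeZero.pos M)
  have hzs : Function.Surjective z := by
    refine ((Nat.bijective_iff_injective_and_card z).2 ⟨hz, ?_⟩).2
    rw [Nat.card_congr Multiplicative.toAdd, Nat.card_zmod, Nat.card_eq_fintype_card, Fintype.card_units, hK]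
  have hdiag : ∀ t ∈ chevE6.diagonalSubgroup K,
      ∃ lam, tor z (Multiplicative.ofAdd (iota chevE6 (ZMod M) lam)) = t := by
    intro t ht
    rw [hh.diagonalSubgroup_eq] at ht
    obtain ⟨c, rfl⟩ := ht
    choose b hb using fun i : Fin chevE6.rank => hzs (c i.val)
    refine ⟨fun i => (b i).toAdd, ?_⟩
    rw [tor_iota]
    exact torusHom_congr fun i hi => by rw [zcoord, dif_pos hi, ofAdd_toAdd, hb]
  -- a Sylow subgroup inside the torus
  have hrQ : ¬ r ∣ Fintype.card K := by
    rw [hK]; exact fun h => hrq (hpr.dvd_of_dvd_pow h)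
  obtain ⟨hGK, hkK⟩ := factorization_group hh (K := K) E6.smith_ok E6.chain_ok E6.poly_ok hsd' hdse hrQ
  rw [hK, show ((q ^ 12 : ℕ) : ZMod r) = 1 by rw [Nat.cast_pow, ← hord, pow_orderOf_eq_one], orderOf_one, pow_one,
    List.filter_eq_self.2 (fun e _ => by simp), show E6.degs.length = 6 from rfl, ← hM] at hGK
  let T : Subgroup ↥(chevE6.group K) := (chevE6.diagonalSubgroup K).subgroupOf (chevE6.group K)
  have hcT : (Nat.card ↥T).factorization r = M.factorization r * 6 := by
    rw [Nat.card_congr (Subgroup.subgroupOfEquivOfLe hh.diagonal_le_group).toEquiv]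
    have h1 := congrArg (fun n : ℕ => n.factorization r) (hh.card_diagonal_mul_ker (F := K))
    rw [Nat.factorization_mul Nat.card_pos.ne' Nat.card_pos.ne', Finsupp.add_apply,
      Nat.factorization_eq_zero_of_not_dvd (hpr.coprime_iff_not_dvd.1 hkK), zero_add, Nat.factorization_pow,
      Finsupp.smul_apply, Nat.card_eq_fintype_card (α := Kˣ), Fintype.card_units, hK, ← hM, smul_eq_mul] at h1
    rw [h1, mul_comm]; rfl
  let S0 : Sylow r ↥T := Classical.ofNonempty
  have hS1 : Nat.card ↥((S0 : Subgroup ↥T).map T.subtype) = r ^ (Nat.card ↥(chevE6.group K)).factorization r := by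
    rw [Subgroup.card_map_of_injective T.subtype_injective, S0.card_eq_multiplicity, hcT, hGK]
  let S1 : Sylow r ↥(chevE6.group K) := Sylow.ofCard _ hS1
  let φ : ↥(chevE6.group F) →* ↥(chevE6.group K) :=
    { toFun := fun x => ⟨glMap chevE6 f x, glMap_group_le f (Subgroup.mem_map_of_mem _ x.2)⟩
      map_one' := Subtype.ext (map_one (glMap chevE6 f))
      map_mul' := fun a b => Subtype.ext (map_mul (glMap chevE6 f) a.1 b.1) }
  have hp0 : IsPGroup r ↥(Subgroup.zpowers x0) :=
    IsPGroup.of_card (n := 1) (by rw [Nat.card_zpowers, hx0, pow_one])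
  obtain ⟨S2, hS2⟩ := (hp0.map φ).exists_le_sylow
  obtain ⟨g0, hg0⟩ := MulAction.exists_smul_eq ↥(chevE6.group K) S2 S1
  have hx0T : (g0 : GL chevE6.Idx K) * glMap chevE6 f x0.1 * (g0 : GL chevE6.Idx K)⁻¹ ∈ chevE6.diagonalSubgroup K := by
    have h1 : g0 * φ x0 * g0⁻¹ ∈ (S1 : Subgroup ↥(chevE6.group K)) := by
      rw [← hg0]
      exact Subgroup.smul_mem_pointwise_smul (φ x0) (MulAut.conj g0) _
        (hS2 (Subgroup.mem_map_of_mem φ (Subgroup.mem_zpowers x0)))
    obtain ⟨y, -, hy⟩ := h1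
    have : (T.subtype y : ↥(chevE6.group K)) ∈ T := y.2
    rw [hy] at this
    exact this
  obtain ⟨k3, hk3⟩ : ∃ k : ℕ, ((3 * k : ℕ) : ZMod r) = 1 := by
    refine ⟨((3 : ZMod r)⁻¹).val, ?_⟩
    rw [Nat.cast_mul, ZMod.natCast_zmod_val]
    refine mul_inv_cancel₀ ?_
    intro h
    have := (ZMod.natCast_eq_zero_iff 3 r).1 (by exact_mod_cast h)
    have := Nat.le_of_dvd (by norm_num) this
    omega
  obtain ⟨la0, hla0⟩ := hdiag _ hx0T
  set la := (3 * k3) • la0 with hladef
  have hla : tor z (Multiplicative.ofAdd (iota chevE6 (ZMod M) la)) =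
      (g0 : GL chevE6.Idx K) * glMap chevE6 f x0.1 * (g0 : GL chevE6.Idx K)⁻¹ := by
    have hp1 : x0 ^ (3 * k3) = x0 := by
      conv_rhs => rw [← pow_one x0]
      rw [pow_eq_pow_iff_modEq, hx0, ← ZMod.natCast_eq_natCast_iff, hk3, Nat.cast_one]
    rw [hladef, map_nsmul, ofAdd_nsmul, map_pow, hla0, conj_pow, ← map_pow]
    exact congrArg (fun u : GL chevE6.Idx F => (g0 : GL chevE6.Idx K) * glMap chevE6 f u * (g0 : GL chevE6.Idx K)⁻¹)
      (congrArg Subtype.val hp1)
  have hla_r : r • la = 0 := by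
    have h1 : tor z (Multiplicative.ofAdd (iota chevE6 (ZMod M) la0)) ^ r = 1 := by
      rw [hla0, conj_pow, ← map_pow, show x0.1 ^ r = 1 by
        rw [← hx0]; exact congrArg Subtype.val (pow_orderOf_eq_one x0), map_one]
      group
    rw [← map_pow, ← ofAdd_nsmul, ← map_nsmul, ← map_one (tor (D := chevE6) z)] at h1
    have h2 : iota chevE6 (ZMod M) (r • la0) = 0 :=
      Multiplicative.ofAdd.injective ((tor_injective hz h1).trans ofAdd_zero.symm)
    have h3 := three_smul_of_iota h2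
    rw [show (3 : ZMod M) = ((3 : ℕ) : ZMod M) by norm_num, Nat.cast_smul_eq_nsmul] at h3
    rw [hladef, smul_smul, show r * (3 * k3) = k3 * (3 * r) by ring, mul_smul, mul_smul, h3, smul_zero]
  have hla0' : la ≠ 0 := by
    intro h0
    rw [h0, map_zero, ofAdd_zero, map_one] at hla
    have h1 : glMap chevE6 f x0.1 = glMap chevE6 f 1 := by
      rw [map_one]
      exact mul_left_cancel (a := (g0 : GL chevE6.Idx K)) (mul_right_cancel (b := (g0 : GL chevE6.Idx K)⁻¹)
        (hla.symm.trans (by group)))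
    have : x0 = 1 := Subtype.ext (glMap_injective f h1)
    rw [this, orderOf_one] at hx0
    omega
  obtain ⟨c, hcM⟩ := hrqd
  have hc0 : c ≠ 0 := fun e => hne (by rw [hcM, e, mul_zero])
  set e00 := redVec M r c la with he00
  have he00ne : e00 ≠ 0 := redVec_ne_zero hcM hpr.pos hla_r hla0'
  set a0 := iota chevE6 (ZMod M) la with ha0
  have ha0CW : a0 ∈ CW chevE6 (ZMod M) := ⟨la, rfl⟩
  set hel0 : GL chevE6.Idx K := glMap chevE6 σ (g0 : GL chevE6.Idx K) * (g0 : GL chevE6.Idx K)⁻¹ with hhel0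
  have hhel0G : hel0 ∈ chevE6.group K :=
    mul_mem (glMap_group_le σ (Subgroup.mem_map_of_mem _ g0.2)) (inv_mem g0.2)
  have hhela0 : hel0 * tor z (Multiplicative.ofAdd a0) =
      tor z (Multiplicative.ofAdd ((q : ZMod M) • a0)) * hel0 := by
    have e : σ.comp f = f := RingHom.ext hσf
    have h1 := congrArg (glMap chevE6 σ) hla
    rw [glMap_tor z σ q hσ, map_mul, map_mul, map_inv, glMap_glMap, e] at h1
    rw [h1, hla, hhel0]
    group
  obtain ⟨L, hL, bo, hbo, uu, huu, hel_eq⟩ := hh.exists_canonical hhel0G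
  set w0 := wperm hh.toChecked L with hw
  have hwW : w0 ∈ weyl hh.toChecked (Finset.range chevE6.rank) := hh.toChecked.mem_weyl_of_word hL
  have hwa0 : act w0 a0 = (q : ZMod M) • a0 := by
    obtain ⟨u₁, hu₁, t₁, ht₁, rfl⟩ := hh.mem_borel_iff.1 hbo
    set t := tor z (Multiplicative.ofAdd a0)
    set t' := tor z (Multiplicative.ofAdd ((q : ZMod M) • a0))
    set tw := tor z (Multiplicative.ofAdd (act w0 a0))
    set n := nProd hh.toChecked K L
    have ht : t ∈ chevE6.diagonalSubgroup K := tor_mem hh.toChecked hh ha0CW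
    have ht' : t' ∈ chevE6.diagonalSubgroup K := tor_mem hh.toChecked hh (Submodule.smul_mem _ _ ha0CW)
    have htw : tw ∈ chevE6.diagonalSubgroup K := tor_mem hh.toChecked hh (act_mem hh.toChecked hwW ha0CW)
    have hnt : n * t = tw * n := nProd_conj_tor hh.toChecked hL a0
    have hu' : t⁻¹ * uu * t ∈ rootGen chevE6 K (invSet chevE6 E6.cert L) := by
      have := (Subgroup.mem_normalizer_iff.1 (inv_mem (hh.diagonal_le_normalizer
        (S := invSet chevE6 E6.cert L) hh.toChecked.invSet_lt ht)) uu).1 huu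
      simpa using this
    have e := hhela0
    rw [hel_eq] at e
    have e' : u₁ * t₁ * tw * n * (t⁻¹ * uu * t) = t' * (u₁ * t₁) * n * uu := by
      calc u₁ * t₁ * tw * n * (t⁻¹ * uu * t) = u₁ * t₁ * (tw * n) * t⁻¹ * uu * t := by group
        _ = u₁ * t₁ * (n * t) * t⁻¹ * uu * t := by rw [hnt]
        _ = u₁ * t₁ * n * uu * t := by group
        _ = t' * (u₁ * t₁ * n * uu) := e
        _ = _ := by group
    obtain ⟨eb, -⟩ := hh.canonical_unique hL
      (mul_mem hbo (Subgroup.mem_sup_right htw)) (mul_mem (Subgroup.mem_sup_right ht') hbo) hu' huu e'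
    have hu1' : t' * u₁ * t'⁻¹ ∈ chevE6.posUnipotent K :=
      (Subgroup.mem_normalizer_iff.1 (hh.diagonal_le_normalizer_posUnipotent ht') u₁).1 hu₁
    have e1 : (t' * u₁ * t'⁻¹)⁻¹ * u₁ = t' * t₁ * (t₁ * tw)⁻¹ := by
      calc (t' * u₁ * t'⁻¹)⁻¹ * u₁ = t' * u₁⁻¹ * t'⁻¹ * (u₁ * t₁ * tw) * (t₁ * tw)⁻¹ := by group
        _ = _ := by rw [eb]; group
    have e2 : (t' * u₁ * t'⁻¹)⁻¹ * u₁ = 1 := by
      refine Subgroup.mem_bot.1 (hh.posUnipotent_inf_diagonal.le
        (Subgroup.mem_inf.2 ⟨mul_mem (inv_mem hu1') hu₁, ?_⟩))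
      rw [e1]
      exact mul_mem (mul_mem ht' ht₁) (inv_mem (mul_mem ht₁ htw))
    have e3 : t' = tw := by
      rw [e2, eq_comm, mul_inv_eq_one, hh.diagonal_commute ht₁ htw] at e1
      exact mul_right_cancel e1
    exact (Multiplicative.ofAdd.injective (tor_injective hz e3)).symm
  -- conjugate to the product of the fundamental reflections
  obtain ⟨W0, hW0⟩ := exists_weylMat hh.toChecked hwW
  have hinjr : ∀ u v : Fin chevE6.rank → ZMod M, r • u = 0 → r • v = 0 →
      iota chevE6 (ZMod M) u = iota chevE6 (ZMod M) v → u = v := fun u v => eq_of_iota_of_smul hr3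
  have hinjR : Function.Injective (iota chevE6 (ZMod r)) := fun u v h =>
    eq_of_iota_of_smul hr3 (by rw [← Nat.cast_smul_eq_nsmul (ZMod r), ZMod.natCast_self, zero_smul])
      (by rw [← Nat.cast_smul_eq_nsmul (ZMod r), ZMod.natCast_self, zero_smul]) h
  have hWla : W0.map (Int.castRingHom (ZMod M)) *ᵥ la = (q : ZMod M) • la := by
    refine hinjr _ _ ?_ ?_ ?_
    · rw [← Matrix.mulVec_smul, hla_r, Matrix.mulVec_zero]
    · rw [smul_comm, hla_r, smul_zero]
    · rw [hW0]; exact hwa0.trans (map_smul (iota chevE6 (ZMod M)) _ la).symm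
  have hWe : W0.map (Int.castRingHom (ZMod r)) *ᵥ e00 = (q : ZMod r) • e00 :=
    redVec_spec hcM hc0 hpr.pos hla_r W0 q hWla
  set ar := iota chevE6 (ZMod r) e00 with har
  have harw : act w0 ar = (q : ZMod r) • ar := by rw [har, ← hW0, hWe, map_smul]
  have hqr : (q : ZMod r) ≠ 0 := fun h => hrq ((ZMod.natCast_eq_zero_iff _ _).1 h)
  obtain ⟨y, hy, hyc⟩ := exists_conj_coxeter (R := ZMod r) (Q := (q : ZMod r)⁻¹) (w := w0) (a := ar)
    (by
      have e : ((Units.mk0 (q : ZMod r) hqr)⁻¹ : (ZMod r)ˣ).val = (q : ZMod r)⁻¹ := Units.val_inv_eq_inv_val _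
      rw [← e, orderOf_units, orderOf_inv, ← orderOf_units, Units.val_mk0, hord])
    (by
      intro h
      have := (ZMod.natCast_eq_zero_iff 6 r).1 (by exact_mod_cast h)
      have := Nat.le_of_dvd (by norm_num) this
      rcases (show r = 6 by omega) with rfl
      exact absurd hpr (by norm_num))
    hwW (isLin_iota e00) (fun h => he00ne (hinjR (h.trans (map_zero _).symm)))
    (fun x hx => by
      obtain ⟨X, hX⟩ := exists_weylMat hh.toChecked (inv_mem hx)
      have e : (fun s => ar (x s)) = iota chevE6 (ZMod r) (X.map (Int.castRingHom (ZMod r)) *ᵥ e00) := by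
        rw [hX]; funext s; rw [act_apply, inv_inv]
      rw [e]; exact isLin_iota _)
    (fun s => by
      have := congrFun harw (w0 s)
      rw [act_apply, Equiv.Perm.inv_def, Equiv.symm_apply_apply, Pi.smul_apply, smul_eq_mul] at this
      rw [this, ← mul_assoc, inv_mul_cancel₀ hqr, one_mul])
  obtain ⟨Ly, hLy, rfl⟩ := hh.toChecked.exists_word_of_weyl hy
  have hLy6 : ∀ i ∈ Ly, i < 6 := hLy
  set ny := nProd checked_E6 K Ly with hny
  have hnyG : ny ∈ chevE6.group K := by
    have h1 := (nPair_mem_snd (K := K) hLy6)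
    have h2 : (pairGroup K).map (MonoidHom.snd _ _) ≤ chevE6.group K := by
      rw [pairGroup, Cfsg.Agent.Lib.Schur.ChevLift.genX, MonoidHom.map_closure, Subgroup.closure_le]
      rintro _ ⟨_, ⟨s, hs, t, rfl⟩, rfl⟩
      refine Subgroup.subset_closure ⟨⟨s, hs⟩, t, ?_⟩
      rw [MonoidHom.coe_snd, Cfsg.Agent.Lib.E6Cubic.pairX_snd hs, ChevalleyDatum.x, dif_pos (show s < chevE6.nroots from hs)]
    have h3 := h2 ⟨_, h1.1, rfl⟩
    rw [MonoidHom.coe_snd, h1.2] at h3
    exact h3
  set g : GL chevE6.Idx K := ny * (g0 : GL chevE6.Idx K) with hgdef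
  have hgG : g ∈ chevE6.group K := mul_mem hnyG g0.2
  set laC := (matW Ly).map (Int.castRingHom (ZMod M)) *ᵥ la with hlaC
  set a := iota chevE6 (ZMod M) laC with ha
  have hay : a = act (wperm hh.toChecked Ly) a0 := by rw [ha, hlaC, iota_matW hLy6]
  have haCW : a ∈ CW chevE6 (ZMod M) := ⟨laC, rfl⟩
  let Φ : ↥(chevE6.group F) →* GL chevE6.Idx K :=
    (MulAut.conj g).toMonoidHom.comp ((glMap chevE6 f).comp (chevE6.group F).subtype)
  have hΦ : ∀ x, Φ x = g * glMap chevE6 f x * g⁻¹ := fun x => rfl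
  have hΦinj : Function.Injective Φ := fun x y e => by
    rw [hΦ, hΦ] at e
    exact Subtype.ext (glMap_injective f (mul_left_cancel (mul_right_cancel e)))
  have hΦG : ∀ x, Φ x ∈ chevE6.group K := fun x =>
    mul_mem (mul_mem hgG (glMap_group_le f (Subgroup.mem_map_of_mem _ x.2))) (inv_mem hgG)
  have hΦx0 : Φ x0 = tor z (Multiplicative.ofAdd a) := by
    rw [hΦ, hgdef, mul_inv_rev, hay, eq_comm]
    have h1 := nProd_conj_tor (z := z) hh.toChecked hLy a0
    calc tor z (Multiplicative.ofAdd (act (wperm hh.toChecked Ly) a0))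
        = ny * tor z (Multiplicative.ofAdd a0) * ny⁻¹ := by rw [hny, h1, mul_inv_cancel_right]
      _ = _ := by rw [hla]; group
  set hel : GL chevE6.Idx K := glMap chevE6 σ g * g⁻¹ with hhel
  have hhelG : hel ∈ chevE6.group K := mul_mem (glMap_group_le σ (Subgroup.mem_map_of_mem _ hgG)) (inv_mem hgG)
  have hσΦ : ∀ x, glMap chevE6 σ (Φ x) = hel * Φ x * hel⁻¹ := by
    intro x
    have : σ.comp f = f := RingHom.ext hσf
    rw [hΦ, map_mul, map_mul, map_inv, glMap_glMap, this, hhel]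
    group
  have hhela : hel * tor z (Multiplicative.ofAdd a) =
      tor z (Multiplicative.ofAdd ((q : ZMod M) • a)) * hel := by
    rw [← mul_inv_eq_iff_eq_mul, ← hΦx0, ← hσΦ, hΦx0, glMap_tor z σ q hσ]
  set w := wp [0, 1, 2, 3, 4, 5] with hwdef
  have hwC : w ∈ W6 := mem_W6 (by decide)
  have hwa : act w a = (q : ZMod M) • a := by
    have e : w = wperm hh.toChecked Ly * w0 * (wperm hh.toChecked Ly)⁻¹ := hyc.symm
    rw [e, hay, act_mul, act_mul, ← act_mul (wperm hh.toChecked Ly)⁻¹, inv_mul_cancel, act_one, hwa0, map_smul]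
  have hlaC_r : r • laC = 0 := by rw [hlaC, ← Matrix.mulVec_smul, hla_r, Matrix.mulVec_zero]
  have hlaC0 : laC ≠ 0 := by
    intro h0
    refine hla0' (hinjr _ _ hla_r (smul_zero r) ?_)
    have h1 : act (wperm hh.toChecked Ly) a0 = 0 := by rw [← hay, ha, h0, map_zero]
    have h2 := congrArg (act (wperm hh.toChecked Ly)⁻¹) h1
    rw [← act_mul, inv_mul_cancel, act_one, map_zero] at h2
    rw [← ha0, h2, map_zero]
  set e0 := redVec M r c laC
  have hCla : coxMat.map (Int.castRingHom (ZMod M)) *ᵥ laC = (q : ZMod M) • laC := by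
    refine hinjr _ _ ?_ ?_ ?_
    · rw [← Matrix.mulVec_smul, hlaC_r, Matrix.mulVec_zero]
    · rw [smul_comm, hlaC_r, smul_zero]
    · rw [iota_coxMat, map_smul, ← ha, hwa]
  have htriv : ∀ x ∈ weyl hh.toChecked (Finset.range chevE6.rank), act x a = a → x = 1 := by
    intro x hx hxa
    obtain ⟨X, hX⟩ := exists_weylMat hh.toChecked hx
    have h1 : X.map (Int.castRingHom (ZMod M)) *ᵥ laC = ((1 : ℕ) : ZMod M) • laC := by
      rw [Nat.cast_one, one_smul]
      refine hinjr _ _ ?_ hlaC_r ?_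
      · rw [← Matrix.mulVec_smul, hlaC_r, Matrix.mulVec_zero]
      · rw [hX, ← ha, hxa]
    have h2 := redVec_spec hcM hc0 hpr.pos hlaC_r X 1 h1
    rw [Nat.cast_one, one_smul] at h2
    exact stab_eigen hr5 hord (redVec_ne_zero hcM hpr.pos hlaC_r hlaC0)
      (redVec_spec hcM hc0 hpr.pos hlaC_r coxMat q hCla) hinjR hx (by rw [← hX, h2])
  have hnv : ∀ s, a s ≠ 0 := by
    intro s hs0
    obtain ⟨x, hx, i, hi, rfl⟩ := exists_conj_simple hh s
    have h := hh.toChecked
    have hfixed : act (x * sigma h i * x⁻¹) a = a := by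
      rw [act_mul, act_mul, fixed_of_apply_eq_zero h hi (act_mem h (inv_mem hx) haCW)
        (by rw [act_apply, inv_inv]; exact hs0), ← act_mul, mul_inv_cancel, act_one]
    have := htriv _ (mul_mem (mul_mem hx (h.sigma_mem_weyl (Finset.mem_range.2 hi))) (inv_mem hx)) hfixed
    exact act_apply_root h hi (conj_eq_one_iff.1 this)
  have hqu : IsUnit (q : ZMod M) := by
    refine (ZMod.isUnit_iff_coprime _ _).2 ?_
    have hQ : q ∣ q ^ 12 := dvd_pow_self q (by norm_num)
    refine Nat.coprime_of_dvd' fun k _ h1 h2 => ?_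
    have := Nat.dvd_sub (h1.trans hQ) h2
    rwa [hM, Nat.sub_sub_self (Nat.one_le_pow _ _ (by omega))] at this
  have hnq : ∀ s, ((q : ZMod M) • a) s ≠ 0 := fun s h => hnv s (hqu.mul_right_eq_zero.1 h)
  obtain ⟨L', t₀, hL', ht₀, hel', hwa'⟩ := monomial_of_conj hh hz haCW (Submodule.smul_mem _ _ haCW) hnv hnq
    hhelG hhela
  have hww : wperm hh.toChecked L' = w := by
    have := htriv (w⁻¹ * wperm hh.toChecked L') (mul_mem (inv_mem hwC) (hh.toChecked.mem_weyl_of_word hL')) (by
      rw [act_mul, hwa', ← hwa, ← act_mul, inv_mul_cancel, act_one])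
    rwa [inv_mul_eq_one, eq_comm] at this
  have hLc : IsWord chevE6 [0, 1, 2, 3, 4, 5] := by
    intro i hi; simp only [List.mem_cons, List.not_mem_nil, or_false] at hi; show i < 6; omega
  obtain ⟨t', ht', hhel_t⟩ : ∃ t' ∈ chevE6.diagonalSubgroup K,
      hel = t' * nProd checked_E6 K [0, 1, 2, 3, 4, 5] := by
    have hd := hh.diag_of_wperm_eq (F := K) hLc hL' hww.symm
    obtain ⟨lam, hlam⟩ := hdiag _ hd
    have e1 := nProd_conj_tor (z := z) hh.toChecked hLc (iota chevE6 (ZMod M) lam)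
    rw [hlam] at e1
    refine ⟨t₀ * tor z (Multiplicative.ofAdd (act w (iota chevE6 (ZMod M) lam))), mul_mem ht₀ ?_, ?_⟩
    · exact tor_mem hh.toChecked hh (act_mem hh.toChecked hwC ⟨lam, rfl⟩)
    · rw [hel', mul_assoc, ← e1, mul_inv_cancel_left]
  exact ⟨g, hgG, t', ht', hhel_t⟩

end Cfsg.Agent.Lib.E6Twist
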