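import Cfsg.Agent.Lib.E6Twist.Coxeter
import Cfsg.Agent.Lib.E6Cubic.Iso
import Cfsg.Agent.Lib.Schur.ChevSymbol

/-!
Torus elements of the simply connected group inside pairs of matrices on the cubic module and the adjoint module, and
the obstruction to twisting them by a central element.
-/

set_option autoImplicit false

namespace Cfsg.Agent.Lib.E6Twist

open Cfsg.Lie Cfsg.Agent.Lib.Chev Cfsg.Agent.Lib.ChevField Cfsg.Agent.Lib.H59.Homocyclic
open Cfsg.Agent.Lib.E6Cubic Cfsg.Agent.Lib.Schur Cfsg.Agent.Lib.Schur.ChevLift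
open scoped Matrix

universe u v

/-- Pairs of matrices. -/
abbrev Pairs (K : Type v) [Field K] := GL I27 K × GL chevE6.Idx K

/-- The group generated by the pairs of root elements. -/
def pairGroup (K : Type v) [Field K] : Subgroup (Pairs K) := genX (pairX K) {r | r < chevE6.nroots}

/-- Pairs mapped along a homomorphism of fields. -/
def pairMap {F : Type u} {K : Type v} [Field F] [Field K] (f : F →+* K) : Pairs F →* Pairs K :=
  MonoidHom.prodMap (Units.map (RingHom.mapMatrix f).toMonoidHom) (glMap chevE6 f)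

theorem pairMap_X {F : Type u} {K : Type v} [Field F] [Field K] (f : F →+* K) {r : ℕ} (hr : r < 72) (t : F) :
    pairMap f (pairX F r t) = pairX K r (f t) := by
  have hr' : r < chevE6.nroots := hr
  rw [pairX, pairX, dif_pos hr', dif_pos hr']
  refine Prod.ext (Units.ext ?_) (glMap_xGL checked_E6 f hr' t)
  show ((rootY r t : GL I27 F) : Matrix I27 I27 F).map f = _
  rw [coe_rootY hr, coe_rootY hr]
  funext i j
  simp only [Matrix.map_apply, Matrix.add_apply, Matrix.smul_apply, rootF, toF_apply, smul_eq_mul, map_add, map_mul,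
    map_intCast]
  by_cases h : i = j <;> simp [h, Matrix.one_apply]

theorem pairMap_group {F : Type u} {K : Type v} [Field F] [Field K] (f : F →+* K) :
    (pairGroup F).map (pairMap f) ≤ pairGroup K := by
  rw [pairGroup, genX, MonoidHom.map_closure, Subgroup.closure_le]
  rintro _ ⟨_, ⟨r, hr, t, rfl⟩, rfl⟩
  rw [pairMap_X f hr]
  exact X_mem_genX _ (S := {r | r < chevE6.nroots}) hr _

theorem exists_pair {F : Type u} [Field F] {x : GL chevE6.Idx F} (hx : x ∈ chevE6.group F) :
    ∃ p ∈ pairGroup F, p.2 = x := by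
  have h : (pairGroup F).map (MonoidHom.snd _ _) = chevE6.group F := by
    rw [pairGroup, genX, MonoidHom.map_closure, ChevalleyDatum.group]
    congr 1
    ext g
    constructor
    · rintro ⟨_, ⟨r, hr, t, rfl⟩, rfl⟩
      refine ⟨⟨r, hr⟩, t, ?_⟩
      rw [MonoidHom.coe_snd, pairX_snd hr, ChevalleyDatum.x, dif_pos (show r < chevE6.nroots from hr)]
    · rintro ⟨r, t, e⟩
      refine ⟨_, ⟨r.val, r.isLt, t, rfl⟩, Units.ext ?_⟩
      rw [MonoidHom.coe_snd, pairX_snd r.isLt, ChevalleyDatum.x, dif_pos r.isLt, e]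
  rw [← h] at hx
  obtain ⟨p, hp, e⟩ := hx
  exact ⟨p, hp, e⟩

section Torus

variable {K : Type v} [Field K] {M : ℕ} (z : Multiplicative (ZMod M) →* Kˣ)

/-- The character of a coordinate of the cubic module. -/
def wtVal (k : I27) : (Fin chevE6.rank → ZMod M) →+ ZMod M where
  toFun lam := ∑ j : Fin chevE6.rank, (wt (chevE6.simple j.val) k : ZMod M) * lam j
  map_zero' := by simp
  map_add' a b := by simp [mul_add, Finset.sum_add_distrib]

theorem wtVal_single (k : I27) (j : Fin chevE6.rank) (x : ZMod M) :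
    wtVal k (Pi.single j x) = wt (chevE6.simple j.val) k • x := by
  simp only [wtVal, AddMonoidHom.coe_mk, ZeroHom.coe_mk]
  rw [Finset.sum_eq_single j (fun i _ hi => by simp [hi]) (fun h => absurd (Finset.mem_univ j) h)]
  simp [zsmul_eq_mul]

/-- The torus on the cubic module. -/
def tor27 : Multiplicative (Fin chevE6.rank → ZMod M) →* GL I27 K :=
  (Units.map (Matrix.diagonalRingHom I27 K).toMonoidHom).comp
    (MulEquiv.piUnits.symm.toMonoidHom.comp
      (Pi.monoidHom fun k => z.comp (AddMonoidHom.toMultiplicative (wtVal k))))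

theorem coe_tor27 (lam : Fin chevE6.rank → ZMod M) :
    ((tor27 z (Multiplicative.ofAdd lam) : GL I27 K) : Matrix I27 I27 K) =
      Matrix.diagonal fun k => ((z (Multiplicative.ofAdd (wtVal k lam)) : Kˣ) : K) := rfl

/-- The torus in the pairs. -/
def torPair : Multiplicative (Fin chevE6.rank → ZMod M) →* Pairs K :=
  MonoidHom.prod (tor27 z) ((tor z).comp (AddMonoidHom.toMultiplicative (iota chevE6 (ZMod M)).toAddMonoidHom))

theorem torPair_snd (lam : Fin chevE6.rank → ZMod M) :
    (torPair z (Multiplicative.ofAdd lam)).2 = tor z (Multiplicative.ofAdd (iota chevE6 (ZMod M) lam)) := rfl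

theorem torPair_single (j : Fin chevE6.rank) (x : ZMod M) :
    torPair z (Multiplicative.ofAdd (Pi.single j x)) =
      hX chevE6 (pairX K) j.val ((z (Multiplicative.ofAdd x) : Kˣ) : K) := by
  set c := z (Multiplicative.ofAdd x)
  have L := rootLift_pair (F := K)
  have hp : chevE6.simple j.val < 72 := checked_E6.simple_lt j.isLt
  have ho : ng chevE6 (chevE6.simple j.val) < 72 := Checked.ng_lt hp
  have hn1 : ∀ a : K, (nX chevE6 (pairX K) j.val a).1 = rootN K (chevE6.simple j.val) a := fun a => by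
    rw [nX, wordX_fst _ (by simp [hp, ho])]
    simp [rootN, ng_eq hp, mul_assoc]
  refine Prod.ext (Units.ext ?_) (Units.ext ?_)
  · show ((tor27 z (Multiplicative.ofAdd (Pi.single j x)) : GL I27 K) : Matrix I27 I27 K) = _
    rw [coe_tor27, hX, L.nX_neg j.isLt 1, Prod.fst_mul, Prod.fst_inv, hn1, hn1, Units.val_mul, coe_rootN hp c]
    have h2 := coe_rootN (F := K) hp 1
    rw [scal_one, one_mul] at h2
    rw [← h2, mul_assoc]
    erw [Units.mul_inv, mul_one]
    rw [scal]
    congr 1
    funext k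
    congr 1
    rw [wtVal_single, ofAdd_zsmul, map_zpow]
  · have e := L.map_hX j.isLt (c : K)
    rw [MonoidHom.coe_snd] at e
    rw [e, L.rooted.hMat_simple_torus j.isLt, torPair_snd, tor_iota]
    congr 1
    refine congrArg (fun g : GL chevE6.Idx K => g) (torusHom_congr fun i hi => ?_)
    rw [zcoord, dif_pos hi]
    by_cases h : i = j.val
    · subst h; simp [c]
    · rw [Pi.single_eq_of_ne (fun e => h (congrArg Fin.val e)), Pi.mulSingle_eq_of_ne h, ofAdd_zero, map_one]

theorem map_eq_prod_single {G : Type*} [Monoid G] (φ : Multiplicative (Fin chevE6.rank → ZMod M) →* G)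
    (lam : Fin chevE6.rank → ZMod M) :
    φ (Multiplicative.ofAdd lam) = (List.ofFn fun j : Fin chevE6.rank =>
      φ (Multiplicative.ofAdd (Pi.single j (lam j)))).prod := by
  show _ = (List.ofFn (φ ∘ fun j : Fin chevE6.rank =>
    Multiplicative.ofAdd (Pi.single j (lam j) : Fin chevE6.rank → ZMod M))).prod
  rw [← List.map_ofFn, ← map_list_prod, List.prod_ofFn, ← ofAdd_sum, Finset.univ_sum_single]

theorem torPair_mem (lam : Fin chevE6.rank → ZMod M) : torPair z (Multiplicative.ofAdd lam) ∈ pairGroup K := by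
  rw [map_eq_prod_single (torPair z)]
  refine list_prod_mem fun p hp => ?_
  obtain ⟨j, rfl⟩ := List.mem_ofFn.1 hp
  rw [torPair_single]
  have hp : chevE6.simple j.val < chevE6.nroots := checked_E6.simple_lt j.isLt
  have h : ∀ a : K, nX chevE6 (pairX K) j.val a ∈ pairGroup K := fun a => by
    refine list_prod_mem fun q hq => ?_
    obtain ⟨⟨r, t⟩, hr, rfl⟩ := List.mem_map.1 hq
    have hr' : r < chevE6.nroots := by
      simp only [List.mem_cons, List.not_mem_nil, or_false, Prod.mk.injEq] at hr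
      rcases hr with ⟨rfl, -⟩ | ⟨rfl, -⟩ | ⟨rfl, -⟩
      · exact hp
      · exact Checked.ng_lt hp
      · exact hp
    exact X_mem_genX _ (S := {r | r < chevE6.nroots}) hr' t
  exact mul_mem (h _) (h _)

/-- The pair lifting the product of `n`'s of a word. -/
def nPair (K : Type v) [Field K] (L : List ℕ) : Pairs K := (L.map fun i => nX chevE6 (pairX K) i 1).prod

theorem nX_conj_torPair {j : ℕ} (hj : j < 6) (lam : Fin chevE6.rank → ZMod M) :
    nX chevE6 (pairX K) j 1 * torPair z (Multiplicative.ofAdd lam) * (nX chevE6 (pairX K) j 1)⁻¹ =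
      torPair z (Multiplicative.ofAdd ((reflMat chevE6 E6.cert j).map (Int.castRingHom (ZMod M)) *ᵥ lam)) := by
  let A := (MulAut.conj (nX chevE6 (pairX K) j 1)).toMonoidHom.comp (torPair z)
  let B := (torPair z).comp (AddMonoidHom.toMultiplicative
    (Matrix.mulVecLin ((reflMat chevE6 E6.cert j).map (Int.castRingHom (ZMod M)))).toAddMonoidHom)
  suffices h : ∀ lam, A (Multiplicative.ofAdd lam) = B (Multiplicative.ofAdd lam) from h lam
  intro lam
  rw [map_eq_prod_single A lam, map_eq_prod_single B lam]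
  congr 2
  funext i
  show nX chevE6 (pairX K) j 1 * torPair z (Multiplicative.ofAdd (Pi.single i (lam i))) * (nX chevE6 (pairX K) j 1)⁻¹ =
    torPair z (Multiplicative.ofAdd ((reflMat chevE6 E6.cert j).map (Int.castRingHom (ZMod M)) *ᵥ Pi.single i (lam i)))
  set x := lam i
  have hjr : j < chevE6.rank := hj
  have e : (reflMat chevE6 E6.cert j).map (Int.castRingHom (ZMod M)) *ᵥ Pi.single i x =
      -Pi.single (⟨j, hjr⟩ : Fin chevE6.rank) (chevE6.cartan i.val (chevE6.simple j) • x) + Pi.single i x := by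
    funext a
    rw [Matrix.mulVec_single]
    simp only [Pi.smul_apply, Matrix.col_apply, Matrix.map_apply, reflMat, Matrix.of_apply, Int.coe_castRingHom,
      MulOpposite.smul_eq_mul_unop, MulOpposite.unop_op, Int.cast_sub, sub_mul, Pi.add_apply, Pi.neg_apply]
    rw [checked_E6.cm_eq hjr i.isLt, sub_eq_add_neg, add_comm]
    congr 1
    · by_cases h : a.val = j
      · rw [if_pos h, show a = ⟨j, hjr⟩ from Fin.ext h, Pi.single_eq_same, zsmul_eq_mul]
      · rw [if_neg h, Pi.single_eq_of_ne (fun e => h (congrArg Fin.val e))]; simp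
    · by_cases h : a = i
      · subst h; simp
      · simp [h]
  rw [e, ofAdd_add, map_mul, ofAdd_neg, map_inv, torPair_single, torPair_single, ofAdd_zsmul, map_zpow]
  exact (rootLift_pair (F := K)).nX_hX i.isLt hjr _

theorem nPair_conj_torPair : ∀ {L : List ℕ}, (∀ i ∈ L, i < 6) → ∀ lam : Fin chevE6.rank → ZMod M,
    nPair K L * torPair z (Multiplicative.ofAdd lam) * (nPair K L)⁻¹ =
      torPair z (Multiplicative.ofAdd ((matW L).map (Int.castRingHom (ZMod M)) *ᵥ lam))
  | [], _, lam => by simp [nPair, matW]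
  | i :: L, hL, lam => by
    rw [matW, List.map_cons, List.prod_cons, Matrix.map_mul, ← Matrix.mulVec_mulVec, ← matW,
      ← nX_conj_torPair z (hL i List.mem_cons_self), ← nPair_conj_torPair (fun j hj => hL j (List.mem_cons_of_mem _ hj)),
      nPair, List.map_cons, List.prod_cons, ← nPair]
    group

theorem nPair_mem_snd : ∀ {L : List ℕ}, (∀ i ∈ L, i < 6) →
    nPair K L ∈ pairGroup K ∧ (nPair K L).2 = nProd checked_E6 K L
  | [], _ => ⟨one_mem _, by simp [nPair, nProd]⟩
  | i :: L, hL => by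
    obtain ⟨h1, h2⟩ := nPair_mem_snd (L := L) fun j hj => hL j (List.mem_cons_of_mem _ hj)
    have hi : i < chevE6.rank := hL i List.mem_cons_self
    have hp : chevE6.simple i < chevE6.nroots := checked_E6.simple_lt hi
    refine ⟨?_, ?_⟩
    · rw [nPair, List.map_cons, List.prod_cons, ← nPair]
      refine mul_mem (list_prod_mem fun q hq => ?_) h1
      obtain ⟨⟨r, t⟩, hr, rfl⟩ := List.mem_map.1 hq
      have hr' : r < chevE6.nroots := by
        simp only [List.mem_cons, List.not_mem_nil, or_false, Prod.mk.injEq] at hr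
        rcases hr with ⟨rfl, -⟩ | ⟨rfl, -⟩ | ⟨rfl, -⟩
        · exact hp
        · exact Checked.ng_lt hp
        · exact hp
      exact X_mem_genX _ (S := {r | r < chevE6.nroots}) hr' t
    · rw [nPair, List.map_cons, List.prod_cons, ← nPair, Prod.snd_mul, h2, nProd_cons]
      congr 1
      refine Units.ext ?_
      rw [coe_nS checked_E6 hi, ← (rootLift_pair (F := K)).map_nX hi 1]
      rfl

end Torus

/-- A left inverse for six of the weights. -/
def wtInv : List (List ℤ) :=
  [[0, 0, 1, 0, 0, 0], [-1, 1, 1, 0, -1, 0], [0, 1, 1, 0, 0, 0], [-2, 2, 2, 0, -1, -1], [-1, 1, 1, 0, 0, 0],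
    [-1, 1, 1, 1, 0, 0]]

/-- The six chosen coordinates. -/
def wtSel : List (Fin 27) := [0, 1, 2, 3, 9, 10]

theorem wt_checks : (∀ i j : Fin 6, ∑ k : Fin 6, (wtInv.getD i.val []).getD k.val 0 *
      wtF (chevE6.simple j.val) (wtSel.getD k.val 0) = if i = j then 1 else 0) ∧
    (∀ (j : Fin 6) (k : Fin 27), (wtF (chevE6.simple j.val) k).natAbs ≤ 1) ∧
    (∀ k l : Fin 27, k ≠ l → ∃ j : Fin 6, wtF (chevE6.simple j.val) k ≠ wtF (chevE6.simple j.val) l) := by
  decide +kernel

/-- Edges joining all coordinates to the first one. -/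
def edges : List (Fin 27 × Fin 27 × ℕ) :=
  [(6, 0, 3), (3, 0, 4), (2, 0, 5), (15, 0, 10), (16, 0, 13), (17, 0, 14), (1, 0, 16), (12, 0, 21), (20, 0, 22),
    (19, 0, 23), (13, 0, 28), (14, 0, 29), (23, 0, 30), (22, 0, 31), (26, 0, 33), (25, 0, 34), (8, 6, 5), (7, 6, 16),
    (18, 6, 22), (21, 6, 30), (24, 6, 33), (5, 3, 5), (4, 3, 16), (9, 2, 10), (10, 2, 13), (11, 2, 14)]

/-- Every coordinate after the first one is the head of an edge from an earlier head. -/
def edgeB : List (Fin 27) → List (Fin 27 × Fin 27 × ℕ) → Bool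
  | done, [] => (List.finRange 27).all fun k => done.contains k
  | done, (o, k, s) :: rest => done.contains k && decide (s < 72) &&
      ((coeff (rootS s) o k).natAbs == 1 || (coeff (rootS s) k o).natAbs == 1) && edgeB (o :: done) rest

theorem edge_ok : edgeB [0] edges = true := by decide +kernel

theorem const_of_edges {R : Type v} (d : Fin 27 → R) (h : ∀ o k : Fin 27, ∀ s < 72,
    (coeff (rootS s) o k).natAbs = 1 → d o = d k) : ∀ (es : List (Fin 27 × Fin 27 × ℕ)) (done : List (Fin 27)),
    edgeB done es = true → (∀ k ∈ done, d k = d 0) → ∀ k, d k = d 0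
  | [], done, he, hd, k => hd k (by
      simp only [edgeB, List.all_eq_true, List.contains_iff_mem] at he
      exact he k (List.mem_finRange k))
  | (o, k, s) :: rest, done, he, hd, k' => by
      simp only [edgeB, Bool.and_eq_true, List.contains_iff_mem, decide_eq_true_eq, Bool.or_eq_true, beq_iff_eq] at he
      refine const_of_edges d h rest (o :: done) he.2 (fun x hx => ?_) k'
      rcases List.mem_cons.1 hx with rfl | hx
      · rcases he.1.2 with e | e
        · rw [h _ _ s he.1.1.2 e]; exact hd k he.1.1.1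
        · rw [← h _ _ s he.1.1.2 e]; exact hd k he.1.1.1
      · exact hd x hx

variable {K : Type v} [Field K] {M : ℕ} {z : Multiplicative (ZMod M) →* Kˣ}

theorem tor27_injective (hz : Function.Injective z) : Function.Injective (tor27 (K := K) z) := by
  rw [injective_iff_map_eq_one]
  intro a ha
  have h : ∀ k, wtVal k a.toAdd = 0 := by
    intro k
    have e := congrArg (fun g : GL I27 K => (g : Matrix I27 I27 K) k k) ha
    rw [← ofAdd_toAdd a] at e
    simp only [coe_tor27, Matrix.diagonal_apply_eq, Units.val_one, Matrix.one_apply_eq, Units.val_eq_one] at e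
    exact Multiplicative.ofAdd.injective (hz (e.trans (map_one z).symm))
  refine Multiplicative.toAdd.injective (funext fun i => ?_)
  have hs : ∑ k : Fin 6, ((wtInv.getD i.val []).getD k.val 0 : ZMod M) * wtVal (pt (wtSel.getD k.val 0)) a.toAdd = 0 :=
    Finset.sum_eq_zero fun k _ => by rw [h, mul_zero]
  simp only [wtVal, AddMonoidHom.coe_mk, ZeroHom.coe_mk, Finset.mul_sum, wt, Equiv.symm_apply_apply] at hs
  rw [Finset.sum_comm] at hs
  rw [Finset.sum_eq_single i] at hs
  · rw [toAdd_one, Pi.zero_apply, ← hs]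
    rw [← Finset.sum_congr rfl fun k _ => mul_assoc _ _ _, ← Finset.sum_mul]
    have := congrArg (fun n : ℤ => (n : ZMod M)) ((wt_checks.1 i i).trans (if_pos rfl))
    simp only [Int.cast_sum, Int.cast_mul, Int.cast_one] at this
    rw [this, one_mul]
  · intro j _ hj
    rw [← Finset.sum_congr rfl fun k _ => mul_assoc _ _ _, ← Finset.sum_mul]
    have := congrArg (fun n : ℤ => (n : ZMod M)) ((wt_checks.1 i j).trans (if_neg (fun e => hj e.symm)))
    simp only [Int.cast_sum, Int.cast_mul, Int.cast_zero] at this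
    rw [this, zero_mul]
  · exact fun hn => absurd (Finset.mem_univ i) hn

theorem kernel_scalar (hz : Function.Injective z) (hM : 3 ≤ M) {p : Pairs K} (hp : p ∈ pairGroup K) (h2 : p.2 = 1) :
    ∃ c : K, c ^ 3 = 1 ∧ (p.1 : Matrix I27 I27 K) = c • 1 := by
  classical
  obtain ⟨X', L, hgen⟩ := (rootLift_pair (F := K)).restrict
  have hc : (⟨p, hp⟩ : ↥(pairGroup K)) ∈ Subgroup.center ↥(pairGroup K) := L.ker_le_center hgen h2
  have hcomm : ∀ g ∈ pairGroup K, g.1 * p.1 = p.1 * g.1 := fun g hg =>
    congrArg (fun x : ↥(pairGroup K) => x.1.1) (Subgroup.mem_center_iff.1 hc ⟨g, hg⟩)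
  set A := (p.1 : Matrix I27 I27 K) with hA
  have hdiag : ∀ k l, k ≠ l → A k l = 0 := by
    intro k l hkl
    obtain ⟨j, hj⟩ := wt_checks.2.2 (pt.symm k) (pt.symm l) (fun e => hkl (pt.symm.injective e))
    have e := congrArg (fun g : GL I27 K => (g : Matrix I27 I27 K) k l)
      (hcomm _ (torPair_mem z (Pi.single j 1)))
    simp only [Units.val_mul] at e
    rw [show (torPair z (Multiplicative.ofAdd (Pi.single j 1))).1 = tor27 z (Multiplicative.ofAdd (Pi.single j 1)) from rfl,
      coe_tor27, Matrix.diagonal_mul, Matrix.mul_diagonal, ← hA, mul_comm (A k l)] at e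
    by_contra h0
    have e2 := hz (Units.ext (mul_right_cancel₀ h0 e))
    have hs : ∀ m, wtVal m (Pi.single j (1 : ZMod M)) = (wtF (chevE6.simple j.val) (pt.symm m) : ZMod M) := by
      intro m
      exact (wtVal_single m j 1).trans (by simp [wt, zsmul_eq_mul])
    have e3 := Multiplicative.ofAdd.injective e2
    rw [hs, hs, ZMod.intCast_eq_intCast_iff_dvd_sub] at e3
    have b1 := wt_checks.2.1 j (pt.symm k)
    have b2 := wt_checks.2.1 j (pt.symm l)
    have h0' : wtF (chevE6.simple j.val) (pt.symm l) - wtF (chevE6.simple j.val) (pt.symm k) = 0 := by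
      refine Int.eq_zero_of_abs_lt_dvd e3 ?_
      rw [abs_lt]; omega
    exact hj (by omega)
  have hd : ∀ o k : Fin 27, ∀ s < 72, (coeff (rootS s) o k).natAbs = 1 →
      A (pt o) (pt o) = A (pt k) (pt k) := by
    intro o k s hs h1
    have hmem : pairX K s 1 ∈ pairGroup K := X_mem_genX _ (S := {r | r < chevE6.nroots}) hs 1
    have e := congrArg (fun g : GL I27 K => (g : Matrix I27 I27 K) (pt o) (pt k)) (hcomm _ hmem)
    have hAd : A = Matrix.diagonal fun m => A m m := by
      ext i j
      by_cases h : i = j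
      · subst h; simp
      · rw [hdiag i j h, Matrix.diagonal_apply_ne _ h]
    simp only [Units.val_mul, pairX_fst hs, coe_rootY hs, ← hA, one_smul] at e
    rw [hAd, add_mul, mul_add, one_mul, mul_one, Matrix.add_apply, Matrix.add_apply, add_right_inj,
      Matrix.mul_diagonal, Matrix.diagonal_mul, rootF, toF_apply, mul_comm (A (pt o) (pt o))] at e
    have hne : ((rootA s (pt o) (pt k) : ℤ) : K) ≠ 0 := by
      rw [rootA, toMat, Matrix.of_apply, Equiv.symm_apply_apply, Equiv.symm_apply_apply]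
      rcases Int.natAbs_eq_iff.1 h1 with h | h <;> simp [h]
    exact (mul_left_cancel₀ hne e).symm
  have hconst := const_of_edges (fun m => A (pt m) (pt m)) hd edges [0] edge_ok (by simp)
  refine ⟨A (pt 0) (pt 0), ?_, ?_⟩
  swap
  · ext i j
    by_cases h : i = j
    · subst h
      have := hconst (pt.symm i)
      simp only [Equiv.apply_symm_apply] at this
      simp [this]
    · rw [hdiag i j h]; simp [h]
  -- the cubic form
  have hE : p.1 ∈ E6univ K := by
    refine elemGroup_le ?_
    have : (pairGroup K).map (MonoidHom.fst _ _) ≤ elemGroup K := by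
      rw [pairGroup, genX, MonoidHom.map_closure, Subgroup.closure_le]
      rintro _ ⟨_, ⟨r, hr, t, rfl⟩, rfl⟩
      rw [MonoidHom.coe_fst, pairX_fst hr]
      exact rootY_mem hr t
    exact this ⟨p, hp, rfl⟩
  set v : I27 → K := fun i => if i.1 = 0 ∧ i.2.1 = i.2.2 then 1 else 0 with hv
  set c := A (pt 0) (pt 0)
  have hAv : A *ᵥ v = c • v := by
    funext i
    rw [Matrix.mulVec, dotProduct, Finset.sum_eq_single i (fun j _ h => by rw [hdiag i j h.symm, zero_mul])
      (fun h => absurd (Finset.mem_univ i) h)]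
    have := hconst (pt.symm i)
    simp only [Equiv.apply_symm_apply] at this
    simp [this]
  have hcub : ∀ d : K, cubicT (d • v) = d ^ 3 := by
    intro d
    simp only [cubicT, mat3, hv, Matrix.det_fin_three, Matrix.trace_fin_three, Matrix.mul_apply, Fin.sum_univ_three,
      Matrix.of_apply, Pi.smul_apply, smul_eq_mul]
    simp (config := { decide := true }) only [if_true, if_false]
    ring
  have h := hE v
  rw [Units.coeHom_apply, ← hA, hAv, hcub] at h
  rw [h, ← one_smul K v, hcub, one_pow]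

theorem no_twist {F : Type u} [Field F] [Finite K] (hz : Function.Injective z) (hM : 3 ≤ M) (f : F →+* K)
    (σ : K →+* K) (q : ℕ) (hσ : ∀ x, σ x = x ^ q) (hσf : ∀ a, σ (f a) = f a) (h3 : q % 3 = 1)
    (hdiag : ∀ t ∈ chevE6.diagonalSubgroup K, ∃ mu, tor z (Multiplicative.ofAdd (iota chevE6 (ZMod M) mu)) = t)
    {g t' : GL chevE6.Idx K} (hg : g ∈ chevE6.group K) (ht : t' ∈ chevE6.diagonalSubgroup K)
    (hhel : glMap chevE6 σ g * g⁻¹ = t' * nProd checked_E6 K [0, 1, 2, 3, 4, 5])
    {x : GL chevE6.Idx F} (hx : x ∈ chevE6.group F) {lam : Fin chevE6.rank → ZMod M}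
    (hlam : g * glMap chevE6 f x * g⁻¹ = tor z (Multiplicative.ofAdd (iota chevE6 (ZMod M) lam))) :
    lam ∈ twistFix coxMat q M := by
  obtain ⟨xp, hxp, rfl⟩ := exists_pair hx
  obtain ⟨gp, hgp, rfl⟩ := exists_pair hg
  obtain ⟨mu, rfl⟩ := hdiag _ ht
  have hL : ∀ i ∈ [0, 1, 2, 3, 4, 5], i < 6 := by decide
  obtain ⟨hnG, hn2⟩ := nPair_mem_snd (K := K) hL
  set T : (Fin chevE6.rank → ZMod M) → Pairs K := fun l => torPair z (Multiplicative.ofAdd l) with hT
  set P := gp * pairMap f xp * gp⁻¹ with hP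
  set k := P * (T lam)⁻¹ with hk
  have hPmem : P ∈ pairGroup K :=
    mul_mem (mul_mem hgp (pairMap_group f ⟨xp, hxp, rfl⟩)) (inv_mem hgp)
  have hkmem : k ∈ pairGroup K := mul_mem hPmem (inv_mem (torPair_mem z lam))
  have hk2 : k.2 = 1 := by
    rw [hk, Prod.snd_mul, Prod.snd_inv, torPair_snd, hP, Prod.snd_mul, Prod.snd_mul, Prod.snd_inv]
    show gp.2 * glMap chevE6 f xp.2 * gp.2⁻¹ * _ = 1
    rw [hlam, mul_inv_cancel]
  set h := pairMap σ gp * gp⁻¹ with hh
  set k' := h * (T mu * nPair K [0, 1, 2, 3, 4, 5])⁻¹ with hk'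
  have hk'mem : k' ∈ pairGroup K :=
    mul_mem (mul_mem (pairMap_group σ ⟨gp, hgp, rfl⟩) (inv_mem hgp)) (inv_mem (mul_mem (torPair_mem z mu) hnG))
  have hk'2 : k'.2 = 1 := by
    rw [hk', hh, hT]
    simp only [Prod.snd_mul, Prod.snd_inv, torPair_snd, hn2]
    show glMap chevE6 σ gp.2 * gp.2⁻¹ * _ = 1
    rw [hhel, mul_inv_cancel]
  obtain ⟨c, hc3, hc⟩ := kernel_scalar hz hM hkmem hk2
  obtain ⟨c', -, hc'⟩ := kernel_scalar hz hM hk'mem hk'2
  have hσσ : pairMap σ (pairMap f xp) = pairMap f xp := by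
    have e : σ.comp f = f := RingHom.ext hσf
    refine Prod.ext (Units.ext ?_) ((glMap_glMap f σ xp.2).trans (by rw [e]; rfl))
    show ((xp.1 : Matrix I27 I27 F).map f).map σ = (xp.1 : Matrix I27 I27 F).map f
    rw [Matrix.map_map, ← RingHom.coe_comp, e]
  have hσk : (pairMap σ k).1 = k.1 := by
    refine Units.ext ?_
    show (k.1 : Matrix I27 I27 K).map σ = _
    rw [hc]
    have hcq : σ c = c := by
      rw [hσ, ← Nat.mod_add_div q 3, h3, pow_add, pow_one, pow_mul, hc3, one_pow, mul_one]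
    ext i j
    by_cases hij : i = j <;> simp [hij, hcq]
  have hσT : (pairMap σ (T lam)).1 = (T ((q : ZMod M) • lam)).1 := by
    refine Units.ext ?_
    show (((tor27 z (Multiplicative.ofAdd lam)) : GL I27 K) : Matrix I27 I27 K).map σ = _
    rw [coe_tor27, Matrix.diagonal_map (map_zero σ)]
    show _ = (((tor27 z (Multiplicative.ofAdd ((q : ZMod M) • lam))) : GL I27 K) : Matrix I27 I27 K)
    rw [coe_tor27]
    congr 1
    funext m
    show σ _ = _
    rw [hσ, ← Units.val_pow_eq_pow_val, ← map_pow, ← ofAdd_nsmul, ← map_nsmul, Nat.cast_smul_eq_nsmul]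
  have hPk : P = k * T lam := by rw [hk, inv_mul_cancel_right]
  have hhk : h = k' * (T mu * nPair K [0, 1, 2, 3, 4, 5]) := by rw [hk', inv_mul_cancel_right]
  have hσP : pairMap σ P = h * P * h⁻¹ := by
    rw [hP, map_mul, map_mul, map_inv, hσσ, hh]
    group
  have hTT : T mu * (nPair K [0, 1, 2, 3, 4, 5] * T lam * (nPair K [0, 1, 2, 3, 4, 5])⁻¹) * (T mu)⁻¹ =
      T (coxMat.map (Int.castRingHom (ZMod M)) *ᵥ lam) := by
    rw [hT, coxMat_eq]
    simp only
    rw [nPair_conj_torPair z hL, ← map_mul, ← map_inv, ← map_mul, ← ofAdd_neg, ← ofAdd_add, ← ofAdd_add]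
    congr 2
    abel
  have hcen : ∀ (d : K) (a b : GL I27 K), (a : Matrix I27 I27 K) = d • 1 → a * b = b * a := fun d a b e =>
    Units.ext (by rw [Units.val_mul, Units.val_mul, e]; simp)
  have e1 := congrArg Prod.fst hσP
  rw [hPk, map_mul, Prod.fst_mul, hσk, hσT, hhk] at e1
  simp only [Prod.fst_mul, Prod.fst_inv] at e1
  have e2 := congrArg Prod.fst hTT
  simp only [Prod.fst_mul, Prod.fst_inv] at e2
  set A := (T mu).1
  set N := (nPair K [0, 1, 2, 3, 4, 5]).1
  have e3 : k'.1 * (A * N) * (k.1 * (T lam).1) * (k'.1 * (A * N))⁻¹ = k.1 * (A * (N * (T lam).1 * N⁻¹) * A⁻¹) := by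
    calc k'.1 * (A * N) * (k.1 * (T lam).1) * (k'.1 * (A * N))⁻¹
        = k'.1 * ((A * N) * k.1 * ((T lam).1 * (A * N)⁻¹)) * k'.1⁻¹ := by group
      _ = k'.1 * (k.1 * (A * N) * ((T lam).1 * (A * N)⁻¹)) * k'.1⁻¹ := by rw [hcen c k.1 (A * N) hc]
      _ = (k.1 * (A * N) * ((T lam).1 * (A * N)⁻¹)) * k'.1 * k'.1⁻¹ := by rw [hcen c' k'.1 _ hc']
      _ = _ := by group
  rw [e3, e2] at e1
  have e4 := Multiplicative.ofAdd.injective (tor27_injective hz (mul_left_cancel e1))
  rw [mem_twistFix, e4]

end Cfsg.Agent.Lib.E6Twist
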