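import Cfsg.Agent.Lib.E6Twist.Coxeter

/-!
Nothing in the Weyl group of type E6 fixes an eigenvector of order twelve of the product of the fundamental
reflections, and no root vanishes on it.
-/

set_option autoImplicit false

namespace Cfsg.Agent.Lib.E6Twist

open Cfsg.Lie Cfsg.Agent.Lib.Chev Cfsg.Agent.Lib.H59.Homocyclic Polynomial
open scoped Matrix

/-- An integral vector spanning the part of the eigenvalues of order twelve. -/
def baseVec : List (List ℤ) := [[1, 1, 1, 1, 0, 0], [1, 1, 2, 2, 1, 0], [1, 2, 2, 3, 2, 1], [1, 1, 2, 3, 2, 1]]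

/-- The values of the roots on that part. -/
def sigTab : List (List ℤ) := [
  [-1, -1, -2, -1], [0, -1, -1, -2], [0, -1, -1, -1], [-1, -1, -1, -1],
  [-1, -2, -1, -1], [0, 0, -1, -1], [-1, 0, -1, -1], [-1, -1, -1, -1],
  [-1, 0, -1, 0], [-1, -1, -1, 0], [-2, -1, -1, 0], [0, 0, 0, -1],
  [0, -1, 0, -1], [-1, -1, 0, -1], [-1, -1, 0, 0], [-1, 0, 0, 0],
  [1, 0, -1, -1], [0, 0, -1, -1], [0, -1, -1, -1], [0, 0, -1, 0],
  [0, -1, -1, 0], [-1, -1, -1, 0], [0, 1, -1, 0], [0, 0, -1, 0],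
  [-1, 0, -1, 0], [-1, 0, -1, 1], [1, 0, 0, -1], [1, -1, 0, -1],
  [0, -1, 0, -1], [0, -1, 0, 0], [1, 1, 0, -1], [1, 0, 0, -1],
  [0, 0, 0, -1], [1, 1, 0, 0], [1, 0, 0, 0], [0, 1, 0, 0],
  [0, -1, 0, 0], [-1, 0, 0, 0], [-1, -1, 0, 0], [0, 0, 0, 1],
  [-1, 0, 0, 1], [-1, -1, 0, 1], [0, 1, 0, 0], [0, 1, 0, 1],
  [-1, 1, 0, 1], [-1, 0, 0, 1], [1, 0, 1, -1], [1, 0, 1, 0],
  [0, 0, 1, 0], [0, -1, 1, 0], [1, 1, 1, 0], [0, 1, 1, 0],
  [0, 0, 1, 0], [0, 1, 1, 1], [0, 0, 1, 1], [-1, 0, 1, 1],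
  [1, 0, 0, 0], [1, 1, 0, 0], [1, 1, 0, 1], [0, 1, 0, 1],
  [0, 0, 0, 1], [2, 1, 1, 0], [1, 1, 1, 0], [1, 0, 1, 0],
  [1, 1, 1, 1], [1, 0, 1, 1], [0, 0, 1, 1], [1, 2, 1, 1],
  [1, 1, 1, 1], [0, 1, 1, 1], [0, 1, 1, 2], [1, 1, 2, 1]]

/-- The vector with a given index, as a coroot combination. -/
def baseV (k : ℕ) : Fin chevE6.rank → ℤ := fun i => (baseVec.getD k []).getD i.val 0

theorem sigTab_ok : ((List.range 72).all fun s => (List.range 4).all fun k =>
    decide (zsum (fun i => chevE6.cartan i s * (baseVec.getD k []).getD i 0) 6 = (sigTab.getD s []).getD k 0)) =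
      true := by decide +kernel

theorem baseV_ok : (∀ i, (coxMat *ᵥ baseV 0) i = baseV 1 i) ∧ (∀ i, (coxMat *ᵥ baseV 1) i = baseV 2 i) ∧
    (∀ i, (coxMat *ᵥ baseV 2) i = baseV 3 i) := by decide +kernel

theorem fibre_ok : ((List.range 72).all fun s =>
    !((sigTab.getD s []) == (sigTab.getD 0 [])) || Nat.beq s 0) = true ∧
    ((List.range 720).all fun k => (List.range 72).all (fun s => Nat.beq (lk (xPerm k) s) s) ||
      smp.any fun α => !((sigTab.getD (lk (xPerm k) α) []) == (sigTab.getD α []))) = true := by decide +kernel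

theorem sigTab_len : ((List.range 72).all fun s => Nat.beq (sigTab.getD s []).length 4) = true := by decide +kernel

theorem sig_eq_of_fixed {x : Equiv.Perm (Fin chevE6.nroots)}
    (hfix : ∀ k < 4, act x (iota chevE6 ℤ (baseV k)) = iota chevE6 ℤ (baseV k)) (s : Fin chevE6.nroots) :
    sigTab.getD (x s).val [] = sigTab.getD s.val [] := by
  have hl := sigTab_len
  have hv := sigTab_ok
  simp only [List.all_eq_true, List.mem_range, decide_eq_true_eq, Nat.beq_eq] at hl hv
  have hval : ∀ (t : Fin chevE6.nroots) (k : ℕ), k < 4 →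
      iota chevE6 ℤ (baseV k) t = (sigTab.getD t.val []).getD k 0 := by
    intro t k hk
    rw [← hv t.val t.2 k hk, iota_apply, zsum_eq, Finset.sum_range]
    rfl
  refine List.ext_getElem (by rw [hl _ (x s).2, hl _ s.2]) fun k h1 h2 => ?_
  rw [hl _ (x s).2] at h1
  rw [← List.getD_eq_getElem _ 0, ← List.getD_eq_getElem _ 0, ← hval _ k h1, ← hval _ k h1]
  have e := congrFun (hfix k h1) (x s)
  rw [act_apply, Equiv.Perm.inv_def, Equiv.symm_apply_apply] at e
  exact e.symm

theorem eq_one_of_sig {x : Equiv.Perm (Fin chevE6.nroots)} (hx : x ∈ W6)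
    (hsig : ∀ s, sigTab.getD (x s).val [] = sigTab.getD s.val []) : x = 1 := by
  obtain ⟨k, hk⟩ := exists_decomp hx
  have h := fibre_ok
  simp only [List.all_eq_true, List.mem_range, Bool.or_eq_true, Bool.not_eq_true', beq_eq_false_iff_ne, ne_eq,
    List.any_eq_true, Nat.beq_eq] at h
  have h0 : x lowRoot = lowRoot :=
    Fin.ext (((h.1 _ (x lowRoot).2).resolve_left (not_not.2 (hsig lowRoot))))
  rw [h0, repEl_lowRoot, one_mul] at hk
  rcases h.2 k k.2 with hid | ⟨α, hα, hne⟩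
  · exact Equiv.ext fun s => Fin.ext (by rw [hk, xEl_val, hid _ s.2]; rfl)
  · refine absurd ?_ hne
    have := hsig ⟨α, smp_lt α hα⟩
    rwa [hk, xEl_val] at this

variable {r : ℕ} [Fact r.Prime]

theorem aeval_coxMat_eq : coxMat ^ 6 + coxMat ^ 5 - coxMat ^ 3 + coxMat + 1 = 0 := by decide +kernel

theorem baseV_zero : baseV 0 = (coxMat ^ 2 + coxMat + 1) *ᵥ (fun i => if i.val = 0 then 1 else 0) := by
  funext i; revert i; decide +kernel

theorem cyclo12 : cyclotomic 12 ℚ = X ^ 4 - X ^ 2 + 1 := by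
  have h := Polynomial.cyclotomic_expand_eq_cyclotomic_mul (p := 2) Nat.prime_two (n := 3) (by norm_num) ℚ
  have h6 : cyclotomic 6 ℚ = X ^ 2 - X + 1 := Polynomial.cyclotomic_six ℚ
  have h12 := Polynomial.cyclotomic_expand_eq_cyclotomic (p := 2) Nat.prime_two (n := 6) (by norm_num) ℚ
  rw [h6] at h12
  rw [show (12 : ℕ) = 6 * 2 from rfl, ← h12]
  simp [← pow_mul]

theorem stab_eigen (hr : 5 < r) {Q : ZMod r} (hQ : orderOf Q = 12) {e0 : Fin chevE6.rank → ZMod r} (he0 : e0 ≠ 0)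
    (he : coxMat.map (Int.castRingHom (ZMod r)) *ᵥ e0 = Q • e0) (hinj : Function.Injective (iota chevE6 (ZMod r)))
    {x : Equiv.Perm (Fin chevE6.nroots)} (hx : x ∈ W6)
    (hxa : act x (iota chevE6 (ZMod r) e0) = iota chevE6 (ZMod r) e0) : x = 1 := by
  classical
  set w := wp [0, 1, 2, 3, 4, 5] with hw
  set a := iota chevE6 (ZMod r) e0 with ha
  have hwW : w ∈ W6 := mem_W6 (by decide)
  have hwa : act w a = Q • a := by rw [ha, ← iota_coxMat, he, map_smul]
  let C0 : Subgroup (Equiv.Perm (Fin chevE6.nroots)) :=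
    { carrier := {y | y ∈ W6 ∧ act y a = a}
      one_mem' := ⟨one_mem _, act_one a⟩
      mul_mem' := fun {y z} hy hz => ⟨mul_mem hy.1 hz.1, by rw [act_mul, hz.2, hy.2]⟩
      inv_mem' := fun {y} hy => ⟨inv_mem hy.1, by
        conv_lhs => rw [← hy.2]
        rw [← act_mul, inv_mul_cancel, act_one]⟩ }
  have hconj : ∀ y ∈ C0, w⁻¹ * y * w ∈ C0 := by
    intro y hy
    refine ⟨mul_mem (mul_mem (inv_mem hwW) hy.1) hwW, ?_⟩
    rw [act_mul, act_mul, hwa, map_smul, hy.2, ← hwa, ← act_mul, inv_mul_cancel, act_one]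
  haveI : Fintype ↥C0 := Fintype.ofFinite _
  choose Xm hX using fun y : ↥C0 => exists_weylMat checked_E6 y.2.1
  set N : Matrix (Fin chevE6.rank) (Fin chevE6.rank) ℤ := ∑ y : ↥C0, Xm y with hN
  have hNact : ∀ (R : Type) [CommRing R] (lam : Fin chevE6.rank → R),
      iota chevE6 R (N.map (Int.castRingHom R) *ᵥ lam) = ∑ y : ↥C0, act y.1 (iota chevE6 R lam) := by
    intro R _ lam
    have : N.map (Int.castRingHom R) = ∑ y : ↥C0, (Xm y).map (Int.castRingHom R) := by
      ext i j; simp [hN, Matrix.sum_apply]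
    rw [this, Matrix.sum_mulVec, map_sum]
    exact Finset.sum_congr rfl fun y _ => hX y R lam
  have hcard : (Fintype.card ↥C0 : ZMod r) ≠ 0 := by
    rw [Ne, ZMod.natCast_eq_zero_iff, ← Nat.card_eq_fintype_card]
    intro hdvd
    have h1 := hdvd.trans (Subgroup.card_dvd_of_le (fun y hy => hy.1 : C0 ≤ W6))
    rw [card_weyl_eq ⟨checked_E6, descent_E6⟩ E6.chain_ok] at h1
    have h2 : ((E6.orbits.map fun o => o.orbit.length).prod) = 2 ^ 7 * 3 ^ 4 * 5 := by decide +kernel
    rw [h2] at h1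
    have hp := (Fact.out : r.Prime)
    rcases (hp.dvd_mul.1 h1) with h3 | h3
    · rcases (hp.dvd_mul.1 h3) with h4 | h4
      · have := Nat.le_of_dvd (by norm_num) (hp.dvd_of_dvd_pow h4); omega
      · have := Nat.le_of_dvd (by norm_num) (hp.dvd_of_dvd_pow h4); omega
    · have := Nat.le_of_dvd (by norm_num) h3; omega
  have hNe : N.map (Int.castRingHom (ZMod r)) *ᵥ e0 = (Fintype.card ↥C0 : ZMod r) • e0 := by
    refine hinj ?_
    rw [hNact, map_smul, ← ha, Nat.cast_smul_eq_nsmul, ← Finset.card_univ, ← Finset.sum_const]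
    exact Finset.sum_congr rfl fun y _ => y.2.2
  set c3 := coxMat ^ 2 + coxMat + 1 with hc3
  have hQ3 : Q ^ 2 + Q + 1 ≠ 0 := fun h => by
    have : Q ^ 3 = 1 := by linear_combination (Q - 1) * h
    have := orderOf_dvd_of_pow_eq_one this
    rw [hQ] at this
    norm_num at this
  have hne : c3 * N ≠ 0 := by
    intro h0
    have h1 : (c3 * N).map (Int.castRingHom (ZMod r)) *ᵥ e0 = ((Q ^ 2 + Q + 1) * Fintype.card ↥C0) • e0 := by
      rw [Matrix.map_mul, ← Matrix.mulVec_mulVec, hNe, Matrix.mulVec_smul, hc3]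
      have e3 : (coxMat ^ 2 + coxMat + 1).map (Int.castRingHom (ZMod r)) =
          coxMat.map (Int.castRingHom (ZMod r)) ^ 2 + coxMat.map (Int.castRingHom (ZMod r)) + 1 := by
        show (Int.castRingHom (ZMod r)).mapMatrix (coxMat ^ 2 + coxMat + 1) = _
        simp only [map_add, map_pow, map_one]
        rfl
      rw [e3]
      rw [Matrix.add_mulVec, Matrix.add_mulVec, pow_two, ← Matrix.mulVec_mulVec, he, Matrix.mulVec_smul, he,
        Matrix.one_mulVec, smul_smul, mul_comm _ (Fintype.card ↥C0 : ZMod r), mul_smul]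
      module
    rw [h0, Matrix.map_zero _ (map_zero _), Matrix.zero_mulVec] at h1
    exact he0 ((smul_eq_zero.1 h1.symm).resolve_left (mul_ne_zero hQ3 hcard))
  obtain ⟨i, j, hij⟩ : ∃ i j, (c3 * N) i j ≠ 0 := by
    by_contra! h
    exact hne (Matrix.ext h)
  set WQ : Matrix (Fin chevE6.rank) (Fin chevE6.rank) ℚ := coxMat.map (Int.castRingHom ℚ) with hWQ
  set z : Fin chevE6.rank → ℚ := N.map (Int.castRingHom ℚ) *ᵥ Pi.single j 1 with hz
  have hzfix : ∀ n : ℕ, ∀ y ∈ C0, act y (iota chevE6 ℚ (WQ ^ n *ᵥ z)) = iota chevE6 ℚ (WQ ^ n *ᵥ z) := by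
    intro n
    induction n with
    | zero =>
      intro y hy
      rw [pow_zero, Matrix.one_mulVec, hz, hNact, map_sum]
      refine Fintype.sum_bijective (fun v : ↥C0 => (⟨y, hy⟩ : ↥C0) * v) (Group.mulLeft_bijective _) _ _ fun v => ?_
      rw [← act_mul]; rfl
    | succ n ih =>
      intro y hy
      have e : y * w = w * (w⁻¹ * y * w) := by group
      rw [pow_succ' WQ, ← Matrix.mulVec_mulVec, hWQ, iota_coxMat, ← act_mul, ← hw, e, act_mul, ih _ (hconj y hy)]
  let Fx : Submodule ℚ (Fin chevE6.rank → ℚ) :=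
    { carrier := {v | ∀ y ∈ C0, act y (iota chevE6 ℚ v) = iota chevE6 ℚ v}
      zero_mem' := fun y _ => by simp
      add_mem' := fun {u v} hu hv y hy => by rw [map_add, map_add, hu y hy, hv y hy]
      smul_mem' := fun c v hv y hy => by rw [map_smul, map_smul, hv y hy] }
  have hpoly : ∀ f : ℚ[X], aeval WQ f *ᵥ z ∈ Fx := by
    intro f
    induction f using Polynomial.induction_on' with
    | add f g hf hg => rw [map_add, Matrix.add_mulVec]; exact Fx.add_mem hf hg
    | monomial n c =>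
      rw [aeval_monomial, Algebra.algebraMap_eq_smul_one, smul_one_mul, Matrix.smul_mulVec]
      exact Fx.smul_mem c (hzfix n)
  -- write `z` in the cyclic basis
  set b : Fin chevE6.rank → ℚ := fun i => if i.val = 0 then 1 else 0 with hb
  obtain ⟨h, hh⟩ : ∃ h : ℚ[X], z = aeval WQ h *ᵥ b := by
    set y := coordMat.map (Int.castRingHom ℚ) *ᵥ z
    refine ⟨∑ k : Fin chevE6.rank, monomial k.val (y k), ?_⟩
    have hcol : ∀ k : Fin chevE6.rank, WQ ^ k.val *ᵥ b = fun i => (basisMat i k : ℚ) := by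
      intro k
      have hdec : ∀ (k : Fin chevE6.rank) (i : Fin chevE6.rank),
          ((coxMat ^ k.val) *ᵥ fun i => if i.val = 0 then 1 else 0) i = basisMat i k := by decide +kernel
      funext i
      rw [← hdec k i, hWQ, hb]
      change (((Int.castRingHom ℚ).mapMatrix coxMat) ^ k.val *ᵥ _) i = _
      rw [← map_pow]
      simp only [Matrix.mulVec, dotProduct, RingHom.mapMatrix_apply, Matrix.map_apply, Int.coe_castRingHom]
      push_cast
      rfl
    rw [map_sum, Matrix.sum_mulVec]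
    simp only [aeval_monomial, Algebra.algebraMap_eq_smul_one, smul_one_mul, Matrix.smul_mulVec, hcol]
    have hBK : basisMat.map (Int.castRingHom ℚ) *ᵥ y = z := by
      rw [Matrix.mulVec_mulVec, ← Matrix.map_mul, basis_coord.1, Matrix.map_one _ (map_zero _) (map_one _),
        Matrix.one_mulVec]
    rw [← hBK]
    funext i
    simp [Matrix.mulVec, dotProduct, mul_comm]
  set P3 : ℚ[X] := X ^ 2 + X + 1 with hP3
  have hP : aeval WQ (cyclotomic 12 ℚ * P3) = 0 := by
    rw [cyclo12, hP3, show ((X : ℚ[X]) ^ 4 - X ^ 2 + 1) * (X ^ 2 + X + 1) = X ^ 6 + X ^ 5 - X ^ 3 + X + 1 by ring]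
    simp only [map_add, map_sub, map_pow, aeval_X, map_one]
    have e := congrArg (Int.castRingHom ℚ).mapMatrix aeval_coxMat_eq
    simp only [map_add, map_sub, map_pow, map_one, map_zero] at e
    exact e
  have hnd : ¬ cyclotomic 12 ℚ ∣ h := by
    rintro ⟨g, rfl⟩
    refine hij ?_
    have h0 : aeval WQ P3 *ᵥ z = 0 := by
      rw [hh, Matrix.mulVec_mulVec, ← map_mul, show P3 * (cyclotomic 12 ℚ * g) = cyclotomic 12 ℚ * P3 * g by ring,
        map_mul, hP, zero_mul, Matrix.zero_mulVec]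
    have h1 : ((c3 * N).map (Int.castRingHom ℚ)) *ᵥ Pi.single j 1 = 0 := by
      rw [Matrix.map_mul, ← Matrix.mulVec_mulVec, ← hz, ← h0, hP3]
      congr 1
      simp only [map_add, map_pow, aeval_X, map_one, hc3]
      change (Int.castRingHom ℚ).mapMatrix _ = _
      simp only [map_add, map_pow, map_one]
      rfl
    have h2 := congrFun h1 i
    simpa [Matrix.mulVec_single] using h2
  obtain ⟨s, t, hst⟩ : IsCoprime h (cyclotomic 12 ℚ) :=
    ((cyclotomic.irreducible_rat (by norm_num)).coprime_iff_not_dvd.2 hnd).symm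
  have hbase : aeval WQ P3 *ᵥ b ∈ Fx := by
    have e : aeval WQ P3 *ᵥ b = aeval WQ (s * P3) *ᵥ z := by
      rw [hh, Matrix.mulVec_mulVec, ← map_mul,
        show s * P3 * h = P3 - t * (cyclotomic 12 ℚ * P3) by linear_combination P3 * hst,
        map_sub, map_mul _ t, hP, mul_zero, sub_zero]
    rw [e]
    exact hpoly _
  have hbaseV : ∀ k < 4, act x (iota chevE6 ℤ (baseV k)) = iota chevE6 ℤ (baseV k) := by
    intro k hk
    have hQk : (fun i => (baseV k i : ℚ)) = WQ ^ k *ᵥ (aeval WQ P3 *ᵥ b) := by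
      have h0 : (fun i => (baseV 0 i : ℚ)) = aeval WQ P3 *ᵥ b := by
        rw [baseV_zero, hP3, hb]
        simp only [map_add, map_pow, aeval_X, map_one, hWQ]
        funext i
        simp only [Matrix.mulVec, dotProduct]
        push_cast
        refine Finset.sum_congr rfl fun m _ => ?_
        congr 1
        change ((Int.castRingHom ℚ).mapMatrix (coxMat ^ 2 + coxMat + 1)) i m = _
        simp only [map_add, map_pow, map_one]
        rfl
      have hstep : ∀ n, (∀ i, (coxMat *ᵥ baseV n) i = baseV (n + 1) i) →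
          (fun i => (baseV (n + 1) i : ℚ)) = WQ *ᵥ fun i => (baseV n i : ℚ) := by
        intro n hn
        funext i
        rw [← hn i, hWQ]
        simp [Matrix.mulVec, dotProduct]
      obtain ⟨b1, b2, b3⟩ := baseV_ok
      interval_cases k
      · rw [h0, pow_zero, Matrix.one_mulVec]
      · rw [hstep 0 b1, h0, pow_one]
      · rw [hstep 1 b2, hstep 0 b1, h0, pow_two, ← Matrix.mulVec_mulVec]
      · rw [hstep 2 b3, hstep 1 b2, hstep 0 b1, h0, pow_succ', pow_two, ← Matrix.mulVec_mulVec,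
          ← Matrix.mulVec_mulVec]
    have hfx : WQ ^ k *ᵥ (aeval WQ P3 *ᵥ b) ∈ Fx := by
      have e : aeval WQ P3 *ᵥ b = aeval WQ (s * P3) *ᵥ z := by
        rw [hh, Matrix.mulVec_mulVec, ← map_mul,
          show s * P3 * h = P3 - t * (cyclotomic 12 ℚ * P3) by linear_combination P3 * hst,
          map_sub, map_mul _ t, hP, mul_zero, sub_zero]
      rw [e, Matrix.mulVec_mulVec, show WQ ^ k = aeval WQ (X ^ k : ℚ[X]) by simp, ← map_mul]
      exact hpoly _
    rw [← hQk] at hfx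
    have h1 := hfx x ⟨hx, hxa⟩
    funext u
    have h2 := congrFun h1 u
    rw [act_apply, iota_apply, iota_apply] at h2
    rw [act_apply, iota_apply, iota_apply]
    exact_mod_cast h2
  exact eq_one_of_sig hx (sig_eq_of_fixed hbaseV)

end Cfsg.Agent.Lib.E6Twist
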