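import Cfsg.Agent.Lib.E6Twist.Regular
import Cfsg.Agent.Lib.E6Twist.Kernel
import Cfsg.Agent.Lib.E6Twist.Lift

/-!
A cyclic self-centralizing subgroup of order `(q⁴ - q² + 1)(q² + q + 1) / (3, q - 1)` in the group of type E6.
-/

set_option autoImplicit false

namespace Cfsg.Agent.Lib.E6Twist

open Cfsg.Lie Cfsg.Agent.Lib.Chev Cfsg.Agent.Lib.ChevField Cfsg.Agent.Lib.H59.Homocyclic
open scoped Matrix

theorem orderOf_eq_twelve {R : Type*} [Field R] (h3 : (3 : R) ≠ 0) (h2 : (2 : R) ≠ 0) {x : R}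
    (h : x ^ 4 - x ^ 2 + 1 = 0) : orderOf x = 12 := by
  have h6 : x ^ 6 = -1 := by linear_combination (x ^ 2 + 1) * h
  have h12 : x ^ 12 = 1 := by linear_combination (x ^ 6 - 1) * h6
  have hn6 : x ^ 6 ≠ 1 := fun e => h2 (by linear_combination h6 - e)
  have hn4 : x ^ 4 ≠ 1 := fun e => by
    have hx2 : x ^ 2 = 2 := by linear_combination e - h
    exact h3 (by linear_combination e - (x ^ 2 + 2) * hx2)
  have hd := orderOf_dvd_of_pow_eq_one h12
  have h6' : ¬ orderOf x ∣ 6 := fun e => hn6 (orderOf_dvd_iff_pow_eq_one.1 e)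
  have h4' : ¬ orderOf x ∣ 4 := fun e => hn4 (orderOf_dvd_iff_pow_eq_one.1 e)
  have key : ∀ n ∈ Nat.divisors 12, ¬ n ∣ 6 → ¬ n ∣ 4 → n = 12 := by decide
  exact key _ (Nat.mem_divisors.2 ⟨hd, by norm_num⟩) h6' h4'

theorem isLin_iota {R : Type*} [CommRing R] (lam : Fin chevE6.rank → R) : IsLin (iota chevE6 R lam) := by
  intro s
  simp only [iota_apply, Finset.mul_sum]
  rw [Finset.sum_comm]
  refine Finset.sum_congr rfl fun i _ => ?_
  rw [checked_E6.cartan_eq i.2 s.2, zsum_eq, Finset.sum_range, Int.cast_sum, Finset.sum_mul]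
  refine Finset.sum_congr rfl fun j _ => ?_
  rw [Int.cast_mul, show ((srootF checked_E6 j.isLt : Fin chevE6.nroots) : ℕ) = chevE6.simple j.val from rfl,
    ← checked_E6.cm_eq j.2 i.2, mul_assoc]

theorem dvd_order {q : ℕ} (hq : 2 ≤ q) : twistOrder q ∣ q ^ 12 - 1 := by
  rw [← Int.natCast_dvd_natCast, Nat.cast_sub (Nat.one_le_pow _ _ (by omega)), Nat.cast_pow, Nat.cast_one]
  refine ⟨((q : ℤ) - 1) * ((q : ℤ) ^ 3 + 1) * ((q : ℤ) ^ 2 + 1), ?_⟩
  rw [twistOrder, Nat.cast_mul, Nat.cast_add, Nat.cast_sub (Nat.pow_le_pow_right (by omega) (by norm_num))]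
  push_cast
  ring

theorem exists_prime_twelve {q : ℕ} (hq : 2 ≤ q) : ∃ r : ℕ, r.Prime ∧ 5 < r ∧ ¬ r ∣ q ∧ orderOf (q : ZMod r) = 12 := by
  have h1 : q ^ 2 * 4 ≤ q ^ 4 := by
    have : (4 : ℕ) ≤ q ^ 2 := by nlinarith
    calc q ^ 2 * 4 ≤ q ^ 2 * q ^ 2 := Nat.mul_le_mul_left _ this
      _ = q ^ 4 := by ring
  have hne : q ^ 4 - q ^ 2 + 1 ≠ 1 := by
    have : 0 < q ^ 2 := by positivity
    omega
  obtain ⟨r, hr, hrn⟩ := Nat.exists_prime_and_dvd hne
  haveI : Fact r.Prime := ⟨hr⟩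
  set x := (q : ZMod r)
  have hx : x ^ 4 - x ^ 2 + 1 = 0 := by
    have h := (ZMod.natCast_eq_zero_iff _ r).2 hrn
    rwa [Nat.cast_add, Nat.cast_sub (by omega), Nat.cast_pow, Nat.cast_pow, Nat.cast_one] at h
  have key2 : ∀ a : ZMod 2, a ^ 4 - a ^ 2 + 1 ≠ 0 := by decide
  have key3 : ∀ a : ZMod 3, a ^ 4 - a ^ 2 + 1 ≠ 0 := by decide
  have hr2 : r ≠ 2 := by rintro rfl; exact key2 _ hx
  have hr3 : r ≠ 3 := by rintro rfl; exact key3 _ hx
  have hnum : ∀ k : ℕ, 0 < k → k < r → ((k : ℕ) : ZMod r) ≠ 0 := fun k hk hkr h =>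
    absurd (Nat.le_of_dvd hk ((ZMod.natCast_eq_zero_iff _ _).1 h)) (by omega)
  have := hr.two_le
  have ho : orderOf x = 12 :=
    orderOf_eq_twelve (by exact_mod_cast hnum 3 (by norm_num) (by omega))
      (by exact_mod_cast hnum 2 (by norm_num) (by omega)) hx
  have hx0 : x ≠ 0 := fun h => by rw [h, orderOf_zero] at ho; norm_num at ho
  have hdvd : 12 ∣ r - 1 := ho ▸ orderOf_dvd_of_pow_eq_one (ZMod.pow_card_sub_one_eq_one hx0)
  refine ⟨r, hr, ?_, fun h => hx0 ((ZMod.natCast_eq_zero_iff _ _).2 h), ho⟩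
  have := Nat.le_of_dvd (by omega) hdvd
  omega

set_option maxHeartbeats 1600000 in
theorem selfCentralizing {F : Type*} [Field F] [Fintype F] :
    ∃ H : Subgroup ↥(chevE6.group F), IsCyclic ↥H ∧
      Nat.card ↥H = twistOrder (Fintype.card F) / Nat.gcd 3 (Fintype.card F - 1) ∧
      Subgroup.centralizer (H : Set ↥(chevE6.group F)) = H := by
  classical
  have hh : Rooted chevE6 E6.cert := ⟨checked_E6, descent_E6⟩
  set q := Fintype.card F with hq
  have hq2 : 2 ≤ q := Fintype.one_lt_card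
  obtain ⟨r, hpr, hr5, hrq, hord⟩ := exists_prime_twelve hq2
  haveI : Fact r.Prime := ⟨hpr⟩
  have hr3 : r.Coprime 3 := (Nat.coprime_primes hpr Nat.prime_three).2 (by omega)
  have hsd' : ∀ i < chevE6.rank, ¬ r ∣ [1, 1, 1, 1, 1, 3].getD i 0 := by
    intro i hi h
    change i < 6 at hi
    interval_cases i <;> simp only [List.getD_cons_zero, List.getD_cons_succ] at h <;>
      have := Nat.le_of_dvd (by norm_num) h <;> omega
  have hdse : ∀ e ∈ E6.degs, ¬ r ∣ e := by
    intro e he h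
    have hr13 : 13 ≤ r := by
      have : 12 ∣ r - 1 := hord ▸ orderOf_dvd_of_pow_eq_one (ZMod.pow_card_sub_one_eq_one
        (fun h0 => by rw [h0, orderOf_zero] at hord; norm_num at hord))
      have := Nat.le_of_dvd (by omega) this
      omega
    simp only [E6.degs, List.mem_cons, List.not_mem_nil, or_false] at he
    rcases he with rfl | rfl | rfl | rfl | rfl | rfl <;> have := Nat.le_of_dvd (by norm_num) h <;> omega
  obtain ⟨hGF, -⟩ := factorization_group hh (K := F) E6.smith_ok E6.chain_ok E6.poly_ok hsd' hdse hrq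
  rw [← hq, hord] at hGF
  have hrqd : r ∣ q ^ 12 - 1 := by
    rw [← ZMod.natCast_eq_zero_iff, Nat.cast_sub (Nat.one_le_pow _ _ (by omega)), Nat.cast_pow, Nat.cast_one,
      ← hord, pow_orderOf_eq_one, sub_self]
  have hne : q ^ 12 - 1 ≠ 0 := by
    have : q ≤ q ^ 12 := Nat.le_self_pow (by norm_num) q
    omega
  have hrG : r ∣ Nat.card ↥(chevE6.group F) := by
    refine (Nat.Prime.dvd_iff_one_le_factorization hpr Nat.card_pos.ne').2 ?_
    rw [hGF]
    refine Nat.one_le_iff_ne_zero.2 (mul_ne_zero ?_ ?_)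
    · exact (hpr.factorization_pos_of_dvd hne hrqd).ne'
    · exact (List.length_pos_of_mem (List.mem_filter.2 ⟨show 12 ∈ E6.degs by decide, by simp⟩)).ne'
  obtain ⟨x0, hx0⟩ := exists_prime_orderOf_dvd_card' r hrG
  -- the extension field
  obtain ⟨p, hpc⟩ := CharP.exists F
  haveI := hpc
  haveI : Fact p.Prime := ⟨CharP.char_is_prime F p⟩
  let K := FiniteField.Extension F p 12
  letI : Fintype K := Fintype.ofFinite K
  have hK : Fintype.card K = q ^ 12 := by
    rw [Fintype.card_eq_nat_card, FiniteField.natCard_extension, hq, Fintype.card_eq_nat_card]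
  let f : F →+* K := algebraMap F K
  let σ : K →+* K := (FiniteField.frobeniusAlgHom F K : K →ₐ[F] K).toRingHom
  have hσ : ∀ x, σ x = x ^ q := fun x => rfl
  have hσf : ∀ a, σ (f a) = f a := fun a => (FiniteField.frobeniusAlgHom F K).commutes a
  have hfix : ∀ x, σ x = x → ∃ y, f y = x := fun x hx => exists_eq_of_pow_eq f x ((hσ x).symm.trans hx)
  set M := q ^ 12 - 1 with hM
  haveI : NeZero M := ⟨hne⟩
  have hNM : twistOrder q ∣ M := dvd_order hq2
  have hM3 : 3 ≤ M := by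
    have : 2 ^ 12 ≤ q ^ 12 := Nat.pow_le_pow_left hq2 12
    omega
  obtain ⟨z, hz⟩ := exists_zmodHom (K := K) (m := M) (by rw [Nat.card_eq_fintype_card, hK]) (NeZero.pos M)
  have hzs : Function.Surjective z := by
    refine ((Nat.bijective_iff_injective_and_card z).2 ⟨hz, ?_⟩).2
    rw [Nat.card_congr Multiplicative.toAdd, Nat.card_zmod, Nat.card_eq_fintype_card, Fintype.card_units, hK]
  have hdiag : ∀ t ∈ chevE6.diagonalSubgroup K,
      ∃ lam, tor z (Multiplicative.ofAdd (iota chevE6 (ZMod M) lam)) = t := by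
    intro t ht
    rw [hh.diagonalSubgroup_eq] at ht
    obtain ⟨c, rfl⟩ := ht
    choose b hb using fun i : Fin chevE6.rank => hzs (c i.val)
    refine ⟨fun i => (b i).toAdd, ?_⟩
    rw [tor_iota]
    exact torusHom_congr fun i hi => by rw [zcoord, dif_pos hi, ofAdd_toAdd, hb]
  -- a Sylow subgroup inside the torus
  have hrQ : ¬ r ∣ Fintype.card K := by
    rw [hK]; exact fun h => hrq (hpr.dvd_of_dvd_pow h)
  obtain ⟨hGK, hkK⟩ := factorization_group hh (K := K) E6.smith_ok E6.chain_ok E6.poly_ok hsd' hdse hrQ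
  rw [hK, show ((q ^ 12 : ℕ) : ZMod r) = 1 by rw [Nat.cast_pow, ← hord, pow_orderOf_eq_one], orderOf_one, pow_one,
    List.filter_eq_self.2 (fun e _ => by simp), show E6.degs.length = 6 from rfl, ← hM] at hGK
  let T : Subgroup ↥(chevE6.group K) := (chevE6.diagonalSubgroup K).subgroupOf (chevE6.group K)
  have hcT : (Nat.card ↥T).factorization r = M.factorization r * 6 := by
    rw [Nat.card_congr (Subgroup.subgroupOfEquivOfLe hh.diagonal_le_group).toEquiv]
    have h1 := congrArg (fun n : ℕ => n.factorization r) (hh.card_diagonal_mul_ker (F := K))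
    rw [Nat.factorization_mul Nat.card_pos.ne' Nat.card_pos.ne', Finsupp.add_apply,
      Nat.factorization_eq_zero_of_not_dvd (hpr.coprime_iff_not_dvd.1 hkK), zero_add, Nat.factorization_pow,
      Finsupp.smul_apply, Nat.card_eq_fintype_card (α := Kˣ), Fintype.card_units, hK, ← hM, smul_eq_mul] at h1
    rw [h1, mul_comm]; rfl
  let S0 : Sylow r ↥T := Classical.ofNonempty
  have hS1 : Nat.card ↥((S0 : Subgroup ↥T).map T.subtype) = r ^ (Nat.card ↥(chevE6.group K)).factorization r := by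
    rw [Subgroup.card_map_of_injective T.subtype_injective, S0.card_eq_multiplicity, hcT, hGK]
  let S1 : Sylow r ↥(chevE6.group K) := Sylow.ofCard _ hS1
  let φ : ↥(chevE6.group F) →* ↥(chevE6.group K) :=
    { toFun := fun x => ⟨glMap chevE6 f x, glMap_group_le f (Subgroup.mem_map_of_mem _ x.2)⟩
      map_one' := Subtype.ext (map_one (glMap chevE6 f))
      map_mul' := fun a b => Subtype.ext (map_mul (glMap chevE6 f) a.1 b.1) }
  have hp0 : IsPGroup r ↥(Subgroup.zpowers x0) :=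
    IsPGroup.of_card (n := 1) (by rw [Nat.card_zpowers, hx0, pow_one])
  obtain ⟨S2, hS2⟩ := (hp0.map φ).exists_le_sylow
  obtain ⟨g0, hg0⟩ := MulAction.exists_smul_eq ↥(chevE6.group K) S2 S1
  have hx0T : (g0 : GL chevE6.Idx K) * glMap chevE6 f x0.1 * (g0 : GL chevE6.Idx K)⁻¹ ∈ chevE6.diagonalSubgroup K := by
    have h1 : g0 * φ x0 * g0⁻¹ ∈ (S1 : Subgroup ↥(chevE6.group K)) := by
      rw [← hg0]
      exact Subgroup.smul_mem_pointwise_smul (φ x0) (MulAut.conj g0) _
        (hS2 (Subgroup.mem_map_of_mem φ (Subgroup.mem_zpowers x0)))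
    obtain ⟨y, -, hy⟩ := h1
    have : (T.subtype y : ↥(chevE6.group K)) ∈ T := y.2
    rw [hy] at this
    exact this
  obtain ⟨k3, hk3⟩ : ∃ k : ℕ, ((3 * k : ℕ) : ZMod r) = 1 := by
    refine ⟨((3 : ZMod r)⁻¹).val, ?_⟩
    rw [Nat.cast_mul, ZMod.natCast_zmod_val]
    refine mul_inv_cancel₀ ?_
    intro h
    have := (ZMod.natCast_eq_zero_iff 3 r).1 (by exact_mod_cast h)
    have := Nat.le_of_dvd (by norm_num) this
    omega
  obtain ⟨la0, hla0⟩ := hdiag _ hx0T
  set la := (3 * k3) • la0 with hladef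
  have hla : tor z (Multiplicative.ofAdd (iota chevE6 (ZMod M) la)) =
      (g0 : GL chevE6.Idx K) * glMap chevE6 f x0.1 * (g0 : GL chevE6.Idx K)⁻¹ := by
    have hp1 : x0 ^ (3 * k3) = x0 := by
      conv_rhs => rw [← pow_one x0]
      rw [pow_eq_pow_iff_modEq, hx0, ← ZMod.natCast_eq_natCast_iff, hk3, Nat.cast_one]
    rw [hladef, map_nsmul, ofAdd_nsmul, map_pow, hla0, conj_pow, ← map_pow]
    exact congrArg (fun u : GL chevE6.Idx F => (g0 : GL chevE6.Idx K) * glMap chevE6 f u * (g0 : GL chevE6.Idx K)⁻¹)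
      (congrArg Subtype.val hp1)
  have hla_r : r • la = 0 := by
    have h1 : tor z (Multiplicative.ofAdd (iota chevE6 (ZMod M) la0)) ^ r = 1 := by
      rw [hla0, conj_pow, ← map_pow, show x0.1 ^ r = 1 by
        rw [← hx0]; exact congrArg Subtype.val (pow_orderOf_eq_one x0), map_one]
      group
    rw [← map_pow, ← ofAdd_nsmul, ← map_nsmul, ← map_one (tor (D := chevE6) z)] at h1
    have h2 : iota chevE6 (ZMod M) (r • la0) = 0 :=
      Multiplicative.ofAdd.injective ((tor_injective hz h1).trans ofAdd_zero.symm)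
    have h3 := three_smul_of_iota h2
    rw [show (3 : ZMod M) = ((3 : ℕ) : ZMod M) by norm_num, Nat.cast_smul_eq_nsmul] at h3
    rw [hladef, smul_smul, show r * (3 * k3) = k3 * (3 * r) by ring, mul_smul, mul_smul, h3, smul_zero]
  have hla0' : la ≠ 0 := by
    intro h0
    rw [h0, map_zero, ofAdd_zero, map_one] at hla
    have h1 : glMap chevE6 f x0.1 = glMap chevE6 f 1 := by
      rw [map_one]
      exact mul_left_cancel (a := (g0 : GL chevE6.Idx K)) (mul_right_cancel (b := (g0 : GL chevE6.Idx K)⁻¹)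
        (hla.symm.trans (by group)))
    have : x0 = 1 := Subtype.ext (glMap_injective f h1)
    rw [this, orderOf_one] at hx0
    omega
  obtain ⟨c, hcM⟩ := hrqd
  have hc0 : c ≠ 0 := fun e => hne (by rw [hcM, e, mul_zero])
  set e00 := redVec M r c la with he00
  have he00ne : e00 ≠ 0 := redVec_ne_zero hcM hpr.pos hla_r hla0'
  set a0 := iota chevE6 (ZMod M) la with ha0
  have ha0CW : a0 ∈ CW chevE6 (ZMod M) := ⟨la, rfl⟩
  set hel0 : GL chevE6.Idx K := glMap chevE6 σ (g0 : GL chevE6.Idx K) * (g0 : GL chevE6.Idx K)⁻¹ with hhel0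
  have hhel0G : hel0 ∈ chevE6.group K :=
    mul_mem (glMap_group_le σ (Subgroup.mem_map_of_mem _ g0.2)) (inv_mem g0.2)
  have hhela0 : hel0 * tor z (Multiplicative.ofAdd a0) =
      tor z (Multiplicative.ofAdd ((q : ZMod M) • a0)) * hel0 := by
    have e : σ.comp f = f := RingHom.ext hσf
    have h1 := congrArg (glMap chevE6 σ) hla
    rw [glMap_tor z σ q hσ, map_mul, map_mul, map_inv, glMap_glMap, e] at h1
    rw [h1, hla, hhel0]
    group
  obtain ⟨L, hL, bo, hbo, uu, huu, hel_eq⟩ := hh.exists_canonical hhel0G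
  set w0 := wperm hh.toChecked L with hw
  have hwW : w0 ∈ weyl hh.toChecked (Finset.range chevE6.rank) := hh.toChecked.mem_weyl_of_word hL
  have hwa0 : act w0 a0 = (q : ZMod M) • a0 := by
    obtain ⟨u₁, hu₁, t₁, ht₁, rfl⟩ := hh.mem_borel_iff.1 hbo
    set t := tor z (Multiplicative.ofAdd a0)
    set t' := tor z (Multiplicative.ofAdd ((q : ZMod M) • a0))
    set tw := tor z (Multiplicative.ofAdd (act w0 a0))
    set n := nProd hh.toChecked K L
    have ht : t ∈ chevE6.diagonalSubgroup K := tor_mem hh.toChecked hh ha0CW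
    have ht' : t' ∈ chevE6.diagonalSubgroup K := tor_mem hh.toChecked hh (Submodule.smul_mem _ _ ha0CW)
    have htw : tw ∈ chevE6.diagonalSubgroup K := tor_mem hh.toChecked hh (act_mem hh.toChecked hwW ha0CW)
    have hnt : n * t = tw * n := nProd_conj_tor hh.toChecked hL a0
    have hu' : t⁻¹ * uu * t ∈ rootGen chevE6 K (invSet chevE6 E6.cert L) := by
      have := (Subgroup.mem_normalizer_iff.1 (inv_mem (hh.diagonal_le_normalizer
        (S := invSet chevE6 E6.cert L) hh.toChecked.invSet_lt ht)) uu).1 huu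
      simpa using this
    have e := hhela0
    rw [hel_eq] at e
    have e' : u₁ * t₁ * tw * n * (t⁻¹ * uu * t) = t' * (u₁ * t₁) * n * uu := by
      calc u₁ * t₁ * tw * n * (t⁻¹ * uu * t) = u₁ * t₁ * (tw * n) * t⁻¹ * uu * t := by group
        _ = u₁ * t₁ * (n * t) * t⁻¹ * uu * t := by rw [hnt]
        _ = u₁ * t₁ * n * uu * t := by group
        _ = t' * (u₁ * t₁ * n * uu) := e
        _ = _ := by group
    obtain ⟨eb, -⟩ := hh.canonical_unique hL
      (mul_mem hbo (Subgroup.mem_sup_right htw)) (mul_mem (Subgroup.mem_sup_right ht') hbo) hu' huu e'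
    have hu1' : t' * u₁ * t'⁻¹ ∈ chevE6.posUnipotent K :=
      (Subgroup.mem_normalizer_iff.1 (hh.diagonal_le_normalizer_posUnipotent ht') u₁).1 hu₁
    have e1 : (t' * u₁ * t'⁻¹)⁻¹ * u₁ = t' * t₁ * (t₁ * tw)⁻¹ := by
      calc (t' * u₁ * t'⁻¹)⁻¹ * u₁ = t' * u₁⁻¹ * t'⁻¹ * (u₁ * t₁ * tw) * (t₁ * tw)⁻¹ := by group
        _ = _ := by rw [eb]; group
    have e2 : (t' * u₁ * t'⁻¹)⁻¹ * u₁ = 1 := by
      refine Subgroup.mem_bot.1 (hh.posUnipotent_inf_diagonal.le
        (Subgroup.mem_inf.2 ⟨mul_mem (inv_mem hu1') hu₁, ?_⟩))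
      rw [e1]
      exact mul_mem (mul_mem ht' ht₁) (inv_mem (mul_mem ht₁ htw))
    have e3 : t' = tw := by
      rw [e2, eq_comm, mul_inv_eq_one, hh.diagonal_commute ht₁ htw] at e1
      exact mul_right_cancel e1
    exact (Multiplicative.ofAdd.injective (tor_injective hz e3)).symm
  -- conjugate to the product of the fundamental reflections
  obtain ⟨W0, hW0⟩ := exists_weylMat hh.toChecked hwW
  have hinjr : ∀ u v : Fin chevE6.rank → ZMod M, r • u = 0 → r • v = 0 →
      iota chevE6 (ZMod M) u = iota chevE6 (ZMod M) v → u = v := fun u v => eq_of_iota_of_smul hr3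
  have hinjR : Function.Injective (iota chevE6 (ZMod r)) := fun u v h =>
    eq_of_iota_of_smul hr3 (by rw [← Nat.cast_smul_eq_nsmul (ZMod r), ZMod.natCast_self, zero_smul])
      (by rw [← Nat.cast_smul_eq_nsmul (ZMod r), ZMod.natCast_self, zero_smul]) h
  have hWla : W0.map (Int.castRingHom (ZMod M)) *ᵥ la = (q : ZMod M) • la := by
    refine hinjr _ _ ?_ ?_ ?_
    · rw [← Matrix.mulVec_smul, hla_r, Matrix.mulVec_zero]
    · rw [smul_comm, hla_r, smul_zero]
    · rw [hW0]; exact hwa0.trans (map_smul (iota chevE6 (ZMod M)) _ la).symm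
  have hWe : W0.map (Int.castRingHom (ZMod r)) *ᵥ e00 = (q : ZMod r) • e00 :=
    redVec_spec hcM hc0 hpr.pos hla_r W0 q hWla
  set ar := iota chevE6 (ZMod r) e00 with har
  have harw : act w0 ar = (q : ZMod r) • ar := by rw [har, ← hW0, hWe, map_smul]
  have hqr : (q : ZMod r) ≠ 0 := fun h => hrq ((ZMod.natCast_eq_zero_iff _ _).1 h)
  obtain ⟨y, hy, hyc⟩ := exists_conj_coxeter (R := ZMod r) (Q := (q : ZMod r)⁻¹) (w := w0) (a := ar)
    (by
      have e : ((Units.mk0 (q : ZMod r) hqr)⁻¹ : (ZMod r)ˣ).val = (q : ZMod r)⁻¹ := Units.val_inv_eq_inv_val _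
      rw [← e, orderOf_units, orderOf_inv, ← orderOf_units, Units.val_mk0, hord])
    (by
      intro h
      have := (ZMod.natCast_eq_zero_iff 6 r).1 (by exact_mod_cast h)
      have := Nat.le_of_dvd (by norm_num) this
      rcases (show r = 6 by omega) with rfl
      exact absurd hpr (by norm_num))
    hwW (isLin_iota e00) (fun h => he00ne (hinjR (h.trans (map_zero _).symm)))
    (fun x hx => by
      obtain ⟨X, hX⟩ := exists_weylMat hh.toChecked (inv_mem hx)
      have e : (fun s => ar (x s)) = iota chevE6 (ZMod r) (X.map (Int.castRingHom (ZMod r)) *ᵥ e00) := by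
        rw [hX]; funext s; rw [act_apply, inv_inv]
      rw [e]; exact isLin_iota _)
    (fun s => by
      have := congrFun harw (w0 s)
      rw [act_apply, Equiv.Perm.inv_def, Equiv.symm_apply_apply, Pi.smul_apply, smul_eq_mul] at this
      rw [this, ← mul_assoc, inv_mul_cancel₀ hqr, one_mul])
  obtain ⟨Ly, hLy, rfl⟩ := hh.toChecked.exists_word_of_weyl hy
  have hLy6 : ∀ i ∈ Ly, i < 6 := hLy
  set ny := nProd checked_E6 K Ly with hny
  have hnyG : ny ∈ chevE6.group K := by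
    have h1 := (nPair_mem_snd (K := K) hLy6)
    have h2 : (pairGroup K).map (MonoidHom.snd _ _) ≤ chevE6.group K := by
      rw [pairGroup, Cfsg.Agent.Lib.Schur.ChevLift.genX, MonoidHom.map_closure, Subgroup.closure_le]
      rintro _ ⟨_, ⟨s, hs, t, rfl⟩, rfl⟩
      refine Subgroup.subset_closure ⟨⟨s, hs⟩, t, ?_⟩
      rw [MonoidHom.coe_snd, Cfsg.Agent.Lib.E6Cubic.pairX_snd hs, ChevalleyDatum.x, dif_pos (show s < chevE6.nroots from hs)]
    have h3 := h2 ⟨_, h1.1, rfl⟩
    rw [MonoidHom.coe_snd, h1.2] at h3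
    exact h3
  set g : GL chevE6.Idx K := ny * (g0 : GL chevE6.Idx K) with hgdef
  have hgG : g ∈ chevE6.group K := mul_mem hnyG g0.2
  set laC := (matW Ly).map (Int.castRingHom (ZMod M)) *ᵥ la with hlaC
  set a := iota chevE6 (ZMod M) laC with ha
  have hay : a = act (wperm hh.toChecked Ly) a0 := by rw [ha, hlaC, iota_matW hLy6]
  have haCW : a ∈ CW chevE6 (ZMod M) := ⟨laC, rfl⟩
  let Φ : ↥(chevE6.group F) →* GL chevE6.Idx K :=
    (MulAut.conj g).toMonoidHom.comp ((glMap chevE6 f).comp (chevE6.group F).subtype)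
  have hΦ : ∀ x, Φ x = g * glMap chevE6 f x * g⁻¹ := fun x => rfl
  have hΦinj : Function.Injective Φ := fun x y e => by
    rw [hΦ, hΦ] at e
    exact Subtype.ext (glMap_injective f (mul_left_cancel (mul_right_cancel e)))
  have hΦG : ∀ x, Φ x ∈ chevE6.group K := fun x =>
    mul_mem (mul_mem hgG (glMap_group_le f (Subgroup.mem_map_of_mem _ x.2))) (inv_mem hgG)
  have hΦx0 : Φ x0 = tor z (Multiplicative.ofAdd a) := by
    rw [hΦ, hgdef, mul_inv_rev, hay, eq_comm]
    have h1 := nProd_conj_tor (z := z) hh.toChecked hLy a0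
    calc tor z (Multiplicative.ofAdd (act (wperm hh.toChecked Ly) a0))
        = ny * tor z (Multiplicative.ofAdd a0) * ny⁻¹ := by rw [hny, h1, mul_inv_cancel_right]
      _ = _ := by rw [hla]; group
  set hel : GL chevE6.Idx K := glMap chevE6 σ g * g⁻¹ with hhel
  have hhelG : hel ∈ chevE6.group K := mul_mem (glMap_group_le σ (Subgroup.mem_map_of_mem _ hgG)) (inv_mem hgG)
  have hσΦ : ∀ x, glMap chevE6 σ (Φ x) = hel * Φ x * hel⁻¹ := by
    intro x
    have : σ.comp f = f := RingHom.ext hσf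
    rw [hΦ, map_mul, map_mul, map_inv, glMap_glMap, this, hhel]
    group
  have hhela : hel * tor z (Multiplicative.ofAdd a) =
      tor z (Multiplicative.ofAdd ((q : ZMod M) • a)) * hel := by
    rw [← mul_inv_eq_iff_eq_mul, ← hΦx0, ← hσΦ, hΦx0, glMap_tor z σ q hσ]
  set w := wp [0, 1, 2, 3, 4, 5] with hwdef
  have hwC : w ∈ W6 := mem_W6 (by decide)
  have hwa : act w a = (q : ZMod M) • a := by
    have e : w = wperm hh.toChecked Ly * w0 * (wperm hh.toChecked Ly)⁻¹ := hyc.symm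
    rw [e, hay, act_mul, act_mul, ← act_mul (wperm hh.toChecked Ly)⁻¹, inv_mul_cancel, act_one, hwa0, map_smul]
  have hlaC_r : r • laC = 0 := by rw [hlaC, ← Matrix.mulVec_smul, hla_r, Matrix.mulVec_zero]
  have hlaC0 : laC ≠ 0 := by
    intro h0
    refine hla0' (hinjr _ _ hla_r (smul_zero r) ?_)
    have h1 : act (wperm hh.toChecked Ly) a0 = 0 := by rw [← hay, ha, h0, map_zero]
    have h2 := congrArg (act (wperm hh.toChecked Ly)⁻¹) h1
    rw [← act_mul, inv_mul_cancel, act_one, map_zero] at h2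
    rw [← ha0, h2, map_zero]
  set e0 := redVec M r c laC
  have hCla : coxMat.map (Int.castRingHom (ZMod M)) *ᵥ laC = (q : ZMod M) • laC := by
    refine hinjr _ _ ?_ ?_ ?_
    · rw [← Matrix.mulVec_smul, hlaC_r, Matrix.mulVec_zero]
    · rw [smul_comm, hlaC_r, smul_zero]
    · rw [iota_coxMat, map_smul, ← ha, hwa]
  have htriv : ∀ x ∈ weyl hh.toChecked (Finset.range chevE6.rank), act x a = a → x = 1 := by
    intro x hx hxa
    obtain ⟨X, hX⟩ := exists_weylMat hh.toChecked hx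
    have h1 : X.map (Int.castRingHom (ZMod M)) *ᵥ laC = ((1 : ℕ) : ZMod M) • laC := by
      rw [Nat.cast_one, one_smul]
      refine hinjr _ _ ?_ hlaC_r ?_
      · rw [← Matrix.mulVec_smul, hlaC_r, Matrix.mulVec_zero]
      · rw [hX, ← ha, hxa]
    have h2 := redVec_spec hcM hc0 hpr.pos hlaC_r X 1 h1
    rw [Nat.cast_one, one_smul] at h2
    exact stab_eigen hr5 hord (redVec_ne_zero hcM hpr.pos hlaC_r hlaC0)
      (redVec_spec hcM hc0 hpr.pos hlaC_r coxMat q hCla) hinjR hx (by rw [← hX, h2])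
  have hnv : ∀ s, a s ≠ 0 := by
    intro s hs0
    obtain ⟨x, hx, i, hi, rfl⟩ := exists_conj_simple hh s
    have h := hh.toChecked
    have hfixed : act (x * sigma h i * x⁻¹) a = a := by
      rw [act_mul, act_mul, fixed_of_apply_eq_zero h hi (act_mem h (inv_mem hx) haCW)
        (by rw [act_apply, inv_inv]; exact hs0), ← act_mul, mul_inv_cancel, act_one]
    have := htriv _ (mul_mem (mul_mem hx (h.sigma_mem_weyl (Finset.mem_range.2 hi))) (inv_mem hx)) hfixed
    exact act_apply_root h hi (conj_eq_one_iff.1 this)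
  have hqu : IsUnit (q : ZMod M) := by
    refine (ZMod.isUnit_iff_coprime _ _).2 ?_
    have hQ : q ∣ q ^ 12 := dvd_pow_self q (by norm_num)
    refine Nat.coprime_of_dvd' fun k _ h1 h2 => ?_
    have := Nat.dvd_sub (h1.trans hQ) h2
    rwa [hM, Nat.sub_sub_self (Nat.one_le_pow _ _ (by omega))] at this
  have hnq : ∀ s, ((q : ZMod M) • a) s ≠ 0 := fun s h => hnv s (hqu.mul_right_eq_zero.1 h)
  obtain ⟨L', t₀, hL', ht₀, hel', hwa'⟩ := monomial_of_conj hh hz haCW (Submodule.smul_mem _ _ haCW) hnv hnq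
    hhelG hhela
  have hww : wperm hh.toChecked L' = w := by
    have := htriv (w⁻¹ * wperm hh.toChecked L') (mul_mem (inv_mem hwC) (hh.toChecked.mem_weyl_of_word hL')) (by
      rw [act_mul, hwa', ← hwa, ← act_mul, inv_mul_cancel, act_one])
    rwa [inv_mul_eq_one, eq_comm] at this
  have hLc : IsWord chevE6 [0, 1, 2, 3, 4, 5] := by
    intro i hi; simp only [List.mem_cons, List.not_mem_nil, or_false] at hi; show i < 6; omega
  obtain ⟨t', ht', hhel_t⟩ : ∃ t' ∈ chevE6.diagonalSubgroup K,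
      hel = t' * nProd checked_E6 K [0, 1, 2, 3, 4, 5] := by
    have hd := hh.diag_of_wperm_eq (F := K) hLc hL' hww.symm
    obtain ⟨lam, hlam⟩ := hdiag _ hd
    have e1 := nProd_conj_tor (z := z) hh.toChecked hLc (iota chevE6 (ZMod M) lam)
    rw [hlam] at e1
    refine ⟨t₀ * tor z (Multiplicative.ofAdd (act w (iota chevE6 (ZMod M) lam))), mul_mem ht₀ ?_, ?_⟩
    · exact tor_mem hh.toChecked hh (act_mem hh.toChecked hwC ⟨lam, rfl⟩)
    · rw [hel', mul_assoc, ← e1, mul_inv_cancel_left]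
  have hhelt : ∀ b ∈ CW chevE6 (ZMod M), hel * tor z (Multiplicative.ofAdd b) * hel⁻¹ =
      tor z (Multiplicative.ofAdd (act w b)) := by
    intro b hb
    rw [mul_inv_eq_iff_eq_mul, hhel_t, mul_assoc, nProd_conj_tor hh.toChecked hLc, ← mul_assoc, ← mul_assoc,
      hh.diagonal_commute ht' (tor_mem hh.toChecked hh (act_mem hh.toChecked hwC hb))]
  set N := twistOrder q with hN
  set dd := Nat.gcd 3 (q - 1) with hdd
  let γ : GL chevE6.Idx K := tor z (Multiplicative.ofAdd (iota chevE6 (ZMod M) (genVec M q)))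
  have hγpow : ∀ n : ℕ, tor z (Multiplicative.ofAdd (iota chevE6 (ZMod M) (n • genVec M q))) = γ ^ n := fun n => by
    rw [map_nsmul, ofAdd_nsmul, map_pow]
  have hγord : orderOf γ = N / dd := by
    refine Nat.dvd_antisymm ?_ ?_
    · rw [orderOf_dvd_iff_pow_eq_one, ← hγpow, (iota_nsmul_genVec (by omega) hNM _).2 dvd_rfl, ofAdd_zero, map_one]
    · refine (iota_nsmul_genVec (by omega) hNM _).1 ?_
      have h1 := pow_orderOf_eq_one γ
      rw [← hγpow, ← map_one (tor (D := chevE6) z)] at h1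
      exact Multiplicative.ofAdd.injective ((tor_injective hz h1).trans ofAdd_zero.symm)
  obtain ⟨hdN, hcop⟩ := twist_residue (q := q) (by omega)
  have hσγ : glMap chevE6 σ γ = hel * γ * hel⁻¹ := by
    rw [hhelt _ ⟨_, rfl⟩, glMap_tor z σ q hσ, ← iota_coxMat, mem_twistFix.1 (genVec_mem hNM), (iota chevE6 (ZMod M)).map_smul]
  let H : Subgroup ↥(chevE6.group F) := (chevE6.diagonalSubgroup K).comap Φ
  have hH : ∀ x, x ∈ H ↔ Φ x ∈ chevE6.diagonalSubgroup K := fun x => Iff.rfl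
  have hmap : H.map Φ = Subgroup.zpowers γ := by
    refine le_antisymm ?_ ?_
    · rintro _ ⟨x, hx, rfl⟩
      obtain ⟨lam, hlam⟩ := hdiag _ ((hH x).1 hx)
      suffices h : ∃ lam' ∈ twistFix coxMat q M, iota chevE6 (ZMod M) lam' = iota chevE6 (ZMod M) lam by
        obtain ⟨lam', hl', he⟩ := h
        obtain ⟨n, rfl⟩ := exists_nsmul_genVec hNM hl'
        rw [← hlam, ← he, hγpow]
        exact pow_mem (Subgroup.mem_zpowers γ) n
      have h1 := hσΦ x
      rw [← hlam, hhelt _ ⟨lam, rfl⟩, glMap_tor z σ q hσ, ← iota_coxMat] at h1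
      have h2 := Multiplicative.ofAdd.injective (tor_injective hz h1)
      rcases gcd_cases q with hd1 | hd3
      · exact exists_fixed_rep (by omega) hd1 (by rw [map_sub, ← h2, map_smul, sub_self])
      · refine ⟨lam, no_twist hz hM3 f σ q hσ hσf ?_ hdiag hgG ht' hhel_t x.2 hlam.symm, rfl⟩
        have : 3 ∣ q - 1 := hd3 ▸ Nat.gcd_dvd_right 3 (q - 1)
        omega
    · rw [Subgroup.zpowers_le]
      set y0 : GL chevE6.Idx K := g⁻¹ * γ * g with hy0
      have hγT : γ ∈ chevE6.diagonalSubgroup K := tor_mem hh.toChecked hh ⟨_, rfl⟩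
      have hy0G : y0 ∈ chevE6.group K := mul_mem (mul_mem (inv_mem hgG) (hh.diagonal_le_group hγT)) hgG
      have hfx : glMap chevE6 σ y0 = y0 := by
        rw [hy0, map_mul, map_mul, map_inv, hσγ, hhel]
        group
      have hpow := pow_mem_map_of_fixed hh f σ hσf hfix hy0G hfx
      set k := Nat.card ↥(zpowMap Kˣ (cmMat chevE6 E6.cert)).ker with hk
      have hk3 : k ∣ 3 := by
        rw [hk, card_ker_of_smith E6.smith_ok]
        refine (Finset.prod_dvd_prod_of_dvd _ (fun i : Fin chevE6.rank => [1, 1, 1, 1, 1, 3].getD i.val 0)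
          fun i _ => Nat.gcd_dvd_right _ _).trans ?_
        decide
      have hone : y0 ^ (N / dd) = 1 := by
        rw [hy0, show g⁻¹ * γ * g = g⁻¹ * γ * (g⁻¹)⁻¹ by rw [inv_inv], conj_pow, ← hγord, pow_orderOf_eq_one]
        group
      have hmem : y0 ∈ (chevE6.group F).map (glMap chevE6 f) := by
        have hc : Nat.Coprime (N / dd) k := hcop.coprime_dvd_right hk3
        have h1 := Nat.gcd_eq_gcd_ab (N / dd) k
        rw [hc.gcd_eq_one] at h1
        rw [← zpow_one y0, show (1 : ℤ) = _ from h1, zpow_add, zpow_mul, zpow_mul, zpow_natCast, zpow_natCast,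
          hone, one_zpow, one_mul]
        exact zpow_mem hpow _
      obtain ⟨x, hx, ex⟩ := hmem
      have e : Φ ⟨x, hx⟩ = γ := by rw [hΦ, ex, hy0]; group
      exact ⟨⟨x, hx⟩, (hH _).2 (e.symm ▸ hγT), e⟩
  let eH : ↥H ≃* ↥(Subgroup.zpowers γ) :=
    (Subgroup.equivMapOfInjective H Φ hΦinj).trans (MulEquiv.subgroupCongr hmap)
  refine ⟨H, ?_, ?_, ?_⟩
  · exact isCyclic_of_surjective eH.symm eH.symm.surjective
  · rw [Nat.card_congr eH.toEquiv, Nat.card_zpowers, hγord]
  · refine le_antisymm (fun x hx => ?_) fun x hx => ?_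
    · have h0 : x0 ∈ H := (hH x0).2 (hΦx0 ▸ tor_mem hh.toChecked hh haCW)
      have hcomm := congrArg Φ (Subgroup.mem_centralizer_iff.1 hx x0 h0)
      rw [map_mul, map_mul, hΦx0] at hcomm
      obtain ⟨L₂, t₂, hL₂, ht₂, hx2, hw2⟩ := monomial_of_conj hh hz haCW haCW hnv hnv (hΦG x) hcomm.symm
      have hone := htriv _ (hh.toChecked.mem_weyl_of_word hL₂) hw2
      have hd := hh.diag_of_wperm_eq (F := K) (L := []) (L' := L₂) (by simp [IsWord]) hL₂ (by rw [hone, wperm_nil])
      rw [show nProd hh.toChecked K ([] : List ℕ) = 1 from by simp [nProd], inv_one, one_mul] at hd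
      exact (hH x).2 (hx2 ▸ mul_mem ht₂ hd)
    · refine Subgroup.mem_centralizer_iff.2 fun y hy => hΦinj ?_
      rw [map_mul, map_mul, hh.diagonal_commute ((hH y).1 hy) ((hH x).1 hx)]

end Cfsg.Agent.Lib.E6Twist
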